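import Cfsg.Agent.Lib.HeUniq.Cent.Setup
import Cfsg.Agent.Lib.MonsterT.SLThree
import Mathlib.LinearAlgebra.Matrix.Transvection

/-!
The centraliser of a transvection in SL(5,2) is described by the first table.
-/

set_option autoImplicit false
set_option maxHeartbeats 800000
set_option maxRecDepth 100000

namespace Cfsg.Agent.HeCent

open Matrix

/-- The big group. -/
abbrev L5 := Matrix.SpecialLinearGroup (Fin 5) (ZMod 2)

/-- The block matrix. -/
def bm (M : Matrix (Fin 3) (Fin 3) (ZMod 2)) (v u : Fin 3 → ZMod 2) (c : ZMod 2) :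
    Matrix (Fin 5) (Fin 5) (ZMod 2) :=
  !![1, v 0, v 1, v 2, c;
     0, M 0 0, M 0 1, M 0 2, u 0;
     0, M 1 0, M 1 1, M 1 2, u 1;
     0, M 2 0, M 2 1, M 2 2, u 2;
     0, 0, 0, 0, 1]

theorem bm_mul (M M' : Matrix (Fin 3) (Fin 3) (ZMod 2)) (v u v' u' : Fin 3 → ZMod 2) (c c' : ZMod 2) :
    bm M v u c * bm M' v' u' c' =
      bm (M * M') (v' + v ᵥ* M') (M *ᵥ u' + u) (c' + v ⬝ᵥ u' + c) := by
  ext i j
  fin_cases i <;> fin_cases j <;>
    simp [bm, Matrix.mul_apply, Fin.sum_univ_five, Fin.sum_univ_three, Matrix.mulVec, Matrix.vecMul, dotProduct] <;>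
    ring

theorem bm_one : bm 1 0 0 0 = 1 := by
  ext i j
  fin_cases i <;> fin_cases j <;> simp [bm]

theorem zmod2_eq_one : ∀ a b : ZMod 2, a * b = 1 → a = 1 := by decide

theorem det_bm (M : L) (v u : Fin 3 → ZMod 2) (c : ZMod 2) : (bm M.1 v u c).det = 1 := by
  have hMM : M.1 * (M⁻¹ : L).1 = 1 := by
    rw [← Matrix.SpecialLinearGroup.coe_mul, mul_inv_cancel, Matrix.SpecialLinearGroup.coe_one]
  have h : bm M.1 v u c * bm (M⁻¹ : L).1 (v ᵥ* (M⁻¹ : L).1) ((M⁻¹ : L).1 *ᵥ u)
      (c + v ⬝ᵥ ((M⁻¹ : L).1 *ᵥ u)) = 1 := by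
    rw [bm_mul, hMM, ← bm_one]
    congr 1
    · exact funext fun i => CharTwo.add_self_eq_zero _
    · rw [Matrix.mulVec_mulVec, hMM, Matrix.one_mulVec]
      exact funext fun i => CharTwo.add_self_eq_zero _
    · linear_combination CharTwo.add_self_eq_zero c + CharTwo.add_self_eq_zero (v ⬝ᵥ ((M⁻¹ : L).1 *ᵥ u))
  have := congrArg Matrix.det h
  rw [Matrix.det_mul, Matrix.det_one] at this
  exact zmod2_eq_one _ _ this

/-- An element of the big group. -/
def bmS (M : L) (v u : Fin 3 → ZMod 2) (c : ZMod 2) : L5 := ⟨bm M.1 v u c, det_bm M v u c⟩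

theorem comm_iff {g : Matrix (Fin 5) (Fin 5) (ZMod 2)} :
    g * transvection 0 4 1 = transvection 0 4 1 * g ↔
      g 0 0 = g 4 4 ∧ (∀ i, i ≠ 0 → g i 0 = 0) ∧ ∀ j, j ≠ 4 → g 4 j = 0 := by
  constructor
  · intro h
    refine ⟨?_, fun i hi => ?_, fun j hj => ?_⟩
    · have e := congrFun (congrFun h 0) 4
      rw [mul_transvection_apply_same, transvection_mul_apply_same] at e
      simpa using e
    · have e := congrFun (congrFun h i) 4
      rw [mul_transvection_apply_same, transvection_mul_apply_of_ne _ _ _ _ hi] at e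
      simpa using e
    · have e := congrFun (congrFun h 0) j
      rw [mul_transvection_apply_of_ne _ _ _ _ hj, transvection_mul_apply_same] at e
      simpa using e
  · rintro ⟨h1, h2, h3⟩
    ext i j
    by_cases hi : i = 0 <;> by_cases hj : j = 4
    · subst hi hj; rw [mul_transvection_apply_same, transvection_mul_apply_same, one_mul, one_mul, h1]
    · subst hi
      rw [mul_transvection_apply_of_ne _ _ _ _ hj, transvection_mul_apply_same, h3 j hj, mul_zero, add_zero]
    · subst hj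
      rw [mul_transvection_apply_same, transvection_mul_apply_of_ne _ _ _ _ hi, h2 i hi, mul_zero, add_zero]
    · rw [mul_transvection_apply_of_ne _ _ _ _ hj, transvection_mul_apply_of_ne _ _ _ _ hi]

theorem cent_mem {t g : L5} (ht : (t : Matrix (Fin 5) (Fin 5) (ZMod 2)) = transvection 0 4 1) :
    g ∈ Subgroup.centralizer ({t} : Set L5) ↔
      (g : Matrix (Fin 5) (Fin 5) (ZMod 2)) * transvection 0 4 1 =
        transvection 0 4 1 * (g : Matrix (Fin 5) (Fin 5) (ZMod 2)) := by
  rw [Subgroup.mem_centralizer_singleton_iff, ← ht, ← Matrix.SpecialLinearGroup.coe_mul,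
    ← Matrix.SpecialLinearGroup.coe_mul]
  exact ⟨congrArg _, fun e => Subtype.ext e⟩

theorem bmS_cent {t : L5} (ht : (t : Matrix (Fin 5) (Fin 5) (ZMod 2)) = transvection 0 4 1)
    (M : L) (v u : Fin 3 → ZMod 2) (c : ZMod 2) : bmS M v u c ∈ Subgroup.centralizer ({t} : Set L5) := by
  rw [cent_mem ht, comm_iff]
  refine ⟨rfl, fun i hi => ?_, fun j hj => ?_⟩
  · fin_cases i <;> first | exact absurd rfl hi | rfl
  · fin_cases j <;> first | exact absurd rfl hj | rfl

/-- The centraliser has order 21504. -/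
theorem card_cent {t : L5} (ht : (t : Matrix (Fin 5) (Fin 5) (ZMod 2)) = transvection 0 4 1) :
    Nat.card (Subgroup.centralizer ({t} : Set L5)) = 21504 := by
  let f : L × (Fin 3 → ZMod 2) × (Fin 3 → ZMod 2) × ZMod 2 → Subgroup.centralizer ({t} : Set L5) :=
    fun p => ⟨bmS p.1 p.2.1 p.2.2.1 p.2.2.2, bmS_cent ht _ _ _ _⟩
  have hinj : Function.Injective f := by
    rintro ⟨M, v, u, c⟩ ⟨M', v', u', c'⟩ e
    have e' : bm M.1 v u c = bm M'.1 v' u' c' := congrArg (fun g : ↥(Subgroup.centralizer ({t} : Set L5)) => (g : L5).1) e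
    have he := fun i j => congrFun (congrFun e' i) j
    have a : v = v' := funext fun i => by
      fin_cases i
      exacts [he 0 1, he 0 2, he 0 3]
    have b : u = u' := funext fun i => by
      fin_cases i
      exacts [he 1 4, he 2 4, he 3 4]
    have d : c = c' := he 0 4
    have m : M = M' := Subtype.ext <| Matrix.ext fun i j => by
      fin_cases i <;> fin_cases j
      exacts [he 1 1, he 1 2, he 1 3, he 2 1, he 2 2, he 2 3, he 3 1, he 3 2, he 3 3]
    rw [a, b, d, m]
  have hsurj : Function.Surjective f := by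
    rintro ⟨g, hg⟩
    have h1 := comm_iff.1 ((cent_mem ht).1 hg)
    have h2 := comm_iff.1 ((cent_mem ht).1 (inv_mem hg))
    set A : Matrix (Fin 5) (Fin 5) (ZMod 2) := g.1 with hA
    set B : Matrix (Fin 5) (Fin 5) (ZMod 2) := (g⁻¹ : L5).1 with hB
    have hAB : A * B = 1 := by
      rw [hA, hB, ← Matrix.SpecialLinearGroup.coe_mul, mul_inv_cancel, Matrix.SpecialLinearGroup.coe_one]
    have e00 := congrFun (congrFun hAB 0) 0
    simp [Matrix.mul_apply, Fin.sum_univ_five, h2.2.1] at e00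
    have a00 : A 0 0 = 1 := e00.1
    let M : Matrix (Fin 3) (Fin 3) (ZMod 2) := !![A 1 1, A 1 2, A 1 3; A 2 1, A 2 2, A 2 3; A 3 1, A 3 2, A 3 3]
    let M' : Matrix (Fin 3) (Fin 3) (ZMod 2) := !![B 1 1, B 1 2, B 1 3; B 2 1, B 2 2, B 2 3; B 3 1, B 3 2, B 3 3]
    have hM : M * M' = 1 := by
      have he := fun i j => congrFun (congrFun hAB i) j
      ext i j
      fin_cases i <;> fin_cases j
      all_goals simp [M, M', Matrix.mul_apply, Fin.sum_univ_three]
      · have := he 1 1; simpa [Matrix.mul_apply, Fin.sum_univ_five, h1.2.1, h2.2.2] using this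
      · have := he 1 2; simpa [Matrix.mul_apply, Fin.sum_univ_five, h1.2.1, h2.2.2] using this
      · have := he 1 3; simpa [Matrix.mul_apply, Fin.sum_univ_five, h1.2.1, h2.2.2] using this
      · have := he 2 1; simpa [Matrix.mul_apply, Fin.sum_univ_five, h1.2.1, h2.2.2] using this
      · have := he 2 2; simpa [Matrix.mul_apply, Fin.sum_univ_five, h1.2.1, h2.2.2] using this
      · have := he 2 3; simpa [Matrix.mul_apply, Fin.sum_univ_five, h1.2.1, h2.2.2] using this
      · have := he 3 1; simpa [Matrix.mul_apply, Fin.sum_univ_five, h1.2.1, h2.2.2] using this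
      · have := he 3 2; simpa [Matrix.mul_apply, Fin.sum_univ_five, h1.2.1, h2.2.2] using this
      · have := he 3 3; simpa [Matrix.mul_apply, Fin.sum_univ_five, h1.2.1, h2.2.2] using this
    have hdet : M.det = 1 := by
      have := congrArg Matrix.det hM
      rw [Matrix.det_mul, Matrix.det_one] at this
      exact zmod2_eq_one _ _ this
    refine ⟨(⟨M, hdet⟩, ![A 0 1, A 0 2, A 0 3], ![A 1 4, A 2 4, A 3 4], A 0 4), Subtype.ext (Subtype.ext ?_)⟩
    show bm M _ _ _ = A
    ext i j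
    fin_cases i <;> fin_cases j <;>
      first
      | rfl
      | exact a00.symm
      | exact (h1.1.symm.trans a00).symm
      | exact (h1.2.1 _ (by decide)).symm
      | exact (h1.2.2 _ (by decide)).symm
  rw [← Nat.card_congr (Equiv.ofBijective f ⟨hinj, hsurj⟩), Nat.card_prod, Nat.card_prod, Nat.card_prod,
    MonsterT.Seven.sl32_facts.2, Nat.card_fun]
  simp [Nat.card_eq_fintype_card, ZMod.card]

/-- A bit in the field. -/
def bitF (b : Bool) : ZMod 2 := bif b then 1 else 0

/-- The extraspecial part by code. -/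
def ioM (n : ℕ) : Matrix (Fin 5) (Fin 5) (ZMod 2) :=
  bm 1 ![bitF (n.testBit 3), bitF (n.testBit 4), bitF (n.testBit 5)]
    ![bitF (n.testBit 0), bitF (n.testBit 1), bitF (n.testBit 2)]
    (bitF (n.testBit 6))

theorem bitF_xor : ∀ a b : Bool, bitF (a ^^ b) = bitF a + bitF b := by decide
theorem bitF_and : ∀ a b : Bool, bitF (a && b) = bitF a * bitF b := by decide
theorem bitF_inj : ∀ {a b : Bool}, bitF a = bitF b → a = b := by decide

theorem ioM_mul {a b : ℕ} (ha : a < 128) (hb : b < 128) : ioM a * ioM b = ioM (qmul a b) := by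
  obtain ⟨h0, h1, h2, h3, h4, h5, h6⟩ := qmul_bits a ha b hb
  rw [ioM, ioM, bm_mul, ioM, Matrix.vecMul_one, Matrix.one_mulVec, Matrix.one_mul, h0, h1, h2, h3, h4, h5, h6]
  congr 1
  · ext i; fin_cases i <;> simp [bitF_xor] <;> ring
  · ext i; fin_cases i <;> simp [bitF_xor] <;> ring
  · simp [dotProduct, Fin.sum_univ_three, bitF_xor, bitF_and]
    ring

/-- The element of order seven. -/
def sM : Matrix (Fin 5) (Fin 5) (ZMod 2) := bm !![0, 0, 1; 1, 0, 1; 0, 1, 0] 0 0 0

/-- The involution. -/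
def xM : Matrix (Fin 5) (Fin 5) (ZMod 2) := bm !![1, 0, 0; 0, 0, 1; 0, 1, 0] 0 0 0

theorem conj_s : ∀ a < 128, sM * ioM a = ioM (tab 0 true a) * sM := by decide +kernel

theorem conj_x : ∀ a < 128, xM * ioM a = ioM (tab 0 false a) * xM := by decide +kernel

theorem model_facts : xM * xM = 1 ∧ sM * sM * sM * sM * sM * sM * sM = 1 ∧ xM * sM * xM * sM * xM * sM = 1 ∧
    xM * sM * sM * sM * sM * (xM * sM * sM * sM * sM) * (xM * sM * sM * sM * sM) * (xM * sM * sM * sM * sM) = 1 ∧
    ioM 0 = 1 ∧ ioM 64 = transvection 0 4 1 := by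
  decide +kernel

/-- The model. -/
theorem model_sys {t : L5} (ht : (t : Matrix (Fin 5) (Fin 5) (ZMod 2)) = transvection 0 4 1) :
    Nonempty (Sys ↥(Subgroup.centralizer ({t} : Set L5)) 0) := by
  obtain ⟨h1, h2, h3, h4, h5, -⟩ := model_facts
  set C := Subgroup.centralizer ({t} : Set L5)
  have hio : ∀ n, ∃ g : C, ((g : L5) : Matrix (Fin 5) (Fin 5) (ZMod 2)) = ioM n := fun n =>
    ⟨⟨bmS 1 ![bitF (n.testBit 3), bitF (n.testBit 4), bitF (n.testBit 5)]
      ![bitF (n.testBit 0), bitF (n.testBit 1), bitF (n.testBit 2)]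
      (bitF (n.testBit 6)), bmS_cent ht _ _ _ _⟩, rfl⟩
  choose io hio using hio
  obtain ⟨s, hs⟩ : ∃ g : C, ((g : L5) : Matrix (Fin 5) (Fin 5) (ZMod 2)) = sM :=
    ⟨⟨bmS sL 0 0 0, bmS_cent ht _ _ _ _⟩, rfl⟩
  obtain ⟨x, hx⟩ : ∃ g : C, ((g : L5) : Matrix (Fin 5) (Fin 5) (ZMod 2)) = xM :=
    ⟨⟨bmS xL 0 0 0, bmS_cent ht _ _ _ _⟩, rfl⟩
  have ext' : ∀ a b : C, ((a : L5) : Matrix (Fin 5) (Fin 5) (ZMod 2)) = (b : L5) → a = b :=
    fun a b e => Subtype.ext (Subtype.ext e)
  exact ⟨{
    io := io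
    s := s
    x := x
    lt := by norm_num
    mul := fun a ha b hb => ext' _ _ (by
      simp only [Subgroup.coe_mul, Matrix.SpecialLinearGroup.coe_mul, hio]; exact ioM_mul ha hb)
    inj := fun a ha b hb e => by
      have e' : ioM a = ioM b := by rw [← hio, ← hio, e]
      refine bits_inj a ha b hb fun i hi => ?_
      have he := fun i j => congrFun (congrFun e' i) j
      interval_cases i
      exacts [bitF_inj (he 1 4), bitF_inj (he 2 4), bitF_inj (he 3 4), bitF_inj (he 0 1), bitF_inj (he 0 2),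
        bitF_inj (he 0 3), bitF_inj (he 0 4)]
    cs := fun a ha => mul_inv_eq_iff_eq_mul.2 (ext' _ _ (by
      simp only [Subgroup.coe_mul, Matrix.SpecialLinearGroup.coe_mul, hio, hs]; exact conj_s a ha))
    cx := fun a ha => mul_inv_eq_iff_eq_mul.2 (ext' _ _ (by
      simp only [Subgroup.coe_mul, Matrix.SpecialLinearGroup.coe_mul, hio, hx]; exact conj_x a ha))
    hxx := ext' _ _ (by
      simp only [Subgroup.coe_mul, Matrix.SpecialLinearGroup.coe_mul, hio, hx]
      rw [h1]; exact h5.symm)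
    hs7 := ext' _ _ (by
      simp only [Subgroup.coe_mul, Matrix.SpecialLinearGroup.coe_mul, hs, OneMemClass.coe_one,
        Matrix.SpecialLinearGroup.coe_one]
      exact h2)
    hxs := ext' _ _ (by
      simp only [Subgroup.coe_mul, Matrix.SpecialLinearGroup.coe_mul, hs, hx, OneMemClass.coe_one,
        Matrix.SpecialLinearGroup.coe_one]
      exact h3)
    hfour := ext' _ _ (by
      simp only [Subgroup.coe_mul, Matrix.SpecialLinearGroup.coe_mul, hs, hx, hio]
      rw [h4]; exact h5.symm)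
    card := card_cent ht }⟩

end Cfsg.Agent.HeCent
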