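import Cfsg.Agent.Lib.HeUniq.Cent.Fusion
import Cfsg.Agent.Lib.HeUniq.Cent.Model
import Cfsg.Agent.Lib.Extraspecial.NonSplit

/-!
In a simple group with the order and the involution centraliser shape of the Held group, the centraliser is
that of a transvection in SL(5,2).
-/

set_option autoImplicit false

namespace Cfsg.Agent.HeCent

open Subgroup

universe u

/-- The centraliser of the involution is the centraliser of a transvection. -/
theorem cent_iso {G : Type u} [Group G] [Finite G] [IsSimpleGroup G] (t : G) (ht : orderOf t = 2)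
    (Q : Subgroup (centralizer ({t} : Set G))) [Q.Normal] (hQ : Cfsg.IsExtraspecial 2 Q)
    (hcard : Nat.card Q = 2 ^ 7)
    (h2c : centralizer (Q : Set (centralizer ({t} : Set G))) ≤ Q)
    (e : (centralizer ({t} : Set G)) ⧸ Q ≃* Matrix.SpecialLinearGroup (Fin 3) (ZMod 2))
    (hG : Nat.card G = 4030387200)
    (s : L5) (hs : (s : Matrix (Fin 5) (Fin 5) (ZMod 2)) = Matrix.transvection 0 4 1) :
    Nonempty (↥(centralizer ({t} : Set G)) ≃* ↥(centralizer ({s} : Set L5))) := by
  set T : ↥(centralizer ({t} : Set G)) := ⟨t, mem_centralizer_singleton_iff.2 rfl⟩ with hT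
  have ht2 : t * t = 1 := by rw [← pow_two, ← ht, pow_orderOf_eq_one]
  have ht1 : t ≠ 1 := fun h => by rw [h, orderOf_one] at ht; exact absurd ht (by norm_num)
  have hTc : ∀ g : ↥(centralizer ({t} : Set G)), g * T = T * g := fun g => Subtype.ext (mem_centralizer_singleton_iff.1 g.2)
  have hTQ : T ∈ Q := h2c (mem_centralizer_iff.2 fun q _ => hTc q)
  obtain ⟨z, hzS, hzc⟩ := XNonSplit.exists_setup hQ
  have hcent : ∀ c : Q, c ∈ center Q → c = 1 ∨ c = z := by
    intro c hc
    obtain ⟨⟨-, -, -⟩, h2⟩ := hQ
    obtain ⟨w, -, huniq⟩ := (Nat.card_eq_two_iff' (1 : center Q)).1 h2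
    by_cases h1 : (⟨c, hc⟩ : center Q) = 1
    · exact Or.inl (congrArg Subtype.val h1)
    · refine Or.inr (congrArg Subtype.val ((huniq _ h1).trans (huniq ⟨z, hzc⟩ ?_).symm))
      exact fun h => hzS.one_ne (congrArg Subtype.val h)
  have hzT : (z : ↥(centralizer ({t} : Set G))) = T := by
    rcases hcent ⟨T, hTQ⟩ (mem_center_iff.2 fun q => Subtype.ext (hTc q)) with h | h
    · exact absurd (congrArg Subtype.val (congrArg Subtype.val h)) ht1
    · exact (congrArg Subtype.val h).symm
  have hX : Ext Q T := {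
    zz := Subtype.ext ht2
    ne := fun h => ht1 (congrArg Subtype.val h)
    central := hTc
    mem := hTQ
    comm := fun a ha b hb => by
      rcases hzS.comm ⟨a, ha⟩ ⟨b, hb⟩ with h | h
      · exact Or.inl (congrArg Subtype.val h)
      · exact Or.inr (by rw [← hzT]; exact congrArg Subtype.val h)
    square := fun a ha => by
      rcases hzS.square ⟨a, ha⟩ with h | h
      · exact Or.inl (congrArg Subtype.val h)
      · exact Or.inr (by rw [← hzT]; exact congrArg Subtype.val h)
    card := by rw [hcard]; norm_num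
    center := fun a ha hab => by
      rcases hcent ⟨a, ha⟩ (mem_center_iff.2 fun q => Subtype.ext (hab q q.2).symm) with h | h
      · exact Or.inl (congrArg Subtype.val h)
      · exact Or.inr (by rw [← hzT]; exact congrArg Subtype.val h)
    faithful := fun g hg => h2c (mem_centralizer_iff.2 fun a ha => (hg a ha).symm)
    normal := fun g a ha => Normal.conj_mem inferInstance a ha g }
  set π : ↥(centralizer ({t} : Set G)) →* L := e.toMonoidHom.comp (QuotientGroup.mk' Q) with hπdef
  have hπ : Function.Surjective π := e.surjective.comp (QuotientGroup.mk'_surjective Q)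
  have hker : ∀ g, π g = 1 ↔ g ∈ Q := fun g => by
    show e (QuotientGroup.mk g) = 1 ↔ g ∈ Q
    rw [MulEquiv.map_eq_one_iff, QuotientGroup.eq_one_iff]
  have hC' : Nat.card ↥(centralizer ({t} : Set G)) = 21504 := by
    rw [card_eq_card_quotient_mul_card_subgroup Q, Nat.card_congr e.toEquiv, MonsterT.Seven.sl32_facts.2, hcard]
    norm_num
  obtain ⟨k, S, hS⟩ := exists_sys hX π hπ hker hC'
  have hk : k = 0 := sys_case_zero S ht2 ht1 (by rw [hS]) hG
  subst hk
  obtain ⟨T'⟩ := model_sys hs
  obtain ⟨φ, -⟩ := S.iso T'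
  exact ⟨φ⟩

end Cfsg.Agent.HeCent
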