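import Cfsg.Agent.Lib.HeUniq.Cent.Defs
import Mathlib.Tactic.IntervalCases

/-! The tables of the six cases are correct. -/

set_option autoImplicit false
set_option maxRecDepth 100000

namespace Cfsg.Agent.HeCent

theorem table0 : tableOK 0 = true := by decide +kernel
theorem table1 : tableOK 1 = true := by decide +kernel
theorem table2 : tableOK 2 = true := by decide +kernel
theorem table3 : tableOK 3 = true := by decide +kernel
theorem table4 : tableOK 4 = true := by decide +kernel
theorem table5 : tableOK 5 = true := by decide +kernel

theorem distinct0 : distinctOK 0 = true := by decide +kernel
theorem distinct1 : distinctOK 1 = true := by decide +kernel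
theorem distinct2 : distinctOK 2 = true := by decide +kernel
theorem distinct3 : distinctOK 3 = true := by decide +kernel
theorem distinct4 : distinctOK 4 = true := by decide +kernel
theorem distinct5 : distinctOK 5 = true := by decide +kernel

theorem table_ok {k : ℕ} (hk : k < 6) : tableOK k = true := by
  interval_cases k
  exacts [table0, table1, table2, table3, table4, table5]

theorem distinct_ok {k : ℕ} (hk : k < 6) : distinctOK k = true := by
  interval_cases k
  exacts [distinct0, distinct1, distinct2, distinct3, distinct4, distinct5]

end Cfsg.Agent.HeCent
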