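/-! Coset tables of the six extensions of an extraspecial group by the simple group of order 168. -/

set_option autoImplicit false
set_option maxRecDepth 10000

namespace Cfsg.Agent.HeCent

/-- The step table. -/
def stpT : Nat := 0x76a28a96669979a185948ea7a6a4689a958d58919f9c6b9d938897a07ba5a78f617ea3a6a57ca4a3a277487f6d9ea17aa09853709b9f3b6f467d9e6e9d6c9c9b5c6a4e789a693d71996789814a8275655a929897968b8c95435f72902f5e94868793925b915990733f7483574c848f8e8d8c8b8a38518089275088878685844d5683824b81807f497e6233637d4729527c7b7a79784f1f4277761d41647574407372713e70542b556f3c31606e6d6c6b6a5d1837696824366766163565646334626160325f4421455e305d5c5b5a5958112d5756552c5453522a51391a3a50284f4e4d4c4b4a49480c234746452244434220411e403f3e3d091c3c3b3a1b3938371936250e263517343332310615302f2e14132e2d122c2b2a2904102827260f2524230d2221201f000b1e1d1c0a1b1a19180108171615071413121110050f0e0d0c0b030a0908020706050403000201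

/-- The cocycle table of case 0. -/
def ceeT0 : Nat := 0x0

/-- The cocycle table of case 1. -/
def ceeT1 : Nat := 0x30307000101000406000203060405050700010104000000060004050101000100000200000000000000030301010004000100000400000007070000000000000600000600000505000002000000030003030000000707000000040400000006060000000000000000000500050500000000000000000200000000000000000005000000000000000000000000000707000000000006000000000000030000000000000000000000000007070000000000060000000000000000000000000000000000000000000000000000000000000000000000000000000000000000000000000000000000000000000000000000000000000000000000000000000000000000000000000000000000000000000000000000000000000000000000000000000000000000000000000000000000000000000000000000000000000000000000000000000000000000000000000000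

/-- The cocycle table of case 2. -/
def ceeT2 : Nat := 0x181830002020000838002018200828283000101018000000380010282020003800002800000000000000181810100008003800001800000030300000000000003800003800002828000008000000180018180000003030000000080800000038380000000000000000002800282800000000000000000800000000000000000028000000000000000000000000003030000000000038000000000000180000000000000000000000000030300000000000380000000000000000000000000000000000000000000000000000000000000000000000000000000000000000000000000000000000000000000000000000000000000000000000000000000000000000000000000000000000000000000000000000000000000000000000000000000000000000000000000000000000000000000000000000000000000000000000000000000000000000000000000000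

/-- The cocycle table of case 3. -/
def ceeT3 : Nat := 0x40400000400040404040404000000040000000004040004000404040004000404000004000000040000040400000000000404000404000000040004000004040400000400000004000004040004040400000004000000040004040400040000000400040000040404040404000000000000000404000404000000000004040000040000000400000404000400000000000000000404000004040000000400000004000004040004040400000000000404040000000400000404000000040000000400000404000400000000000004040000000400000004000004040004000000000000000004040000000400000004000400000000040400000004000000040000040400040000000004040000000400000004000000000404000000040000000400000000000400000004000000000404000000040000000000040000000000040000000400000000000400000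

/-- The cocycle table of case 4. -/
def ceeT4 : Nat := 0x30347400101400446404243464405050740010104004040064004454141004100404200004000000040030341410004000100404400404007070040004000004640400600400505004002004040034043430000004707000040044440400046060000400040000040404540454500000000000000404200404000000000004045000040000000400000404000400707000000000006404000004040030000400000004000004040004047470000000000464040000000400000404000000040000000400000404000400000000000004040000000400000004000004040004000000000000000004040000000400000004000400000000040400000004000000040000040400040000000004040000000400000004000000000404000000040000000400000000000400000004000000000404000000040000000000040000000000040000000400000000000400000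

/-- The cocycle table of case 5. -/
def ceeT5 : Nat := 0x181870402020400878406058604828283040101018004040384010686060007800406800004000000040181850500008003800405800404030300040004000007840403800402828004008004040184058580000007030000040084840400078380000400040000040406840686800000000000000404800404000000000004068000040000000400000404000403030000000000038404000004040180000400000004000004040004070700000000000784040000000400000404000000040000000400000404000400000000000004040000000400000004000004040004000000000000000004040000000400000004000400000000040400000004000000040000040400040000000004040000000400000004000000000404000000040000000400000000000400000004000000000404000000040000000000040000000000040000000400000000000400000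

/-- The spanning tree: parent and letter. -/
def parents : List (Nat × Bool) :=
  [(0,false), (0,true), (1,true), (2,false), (2,true), (3,false), (3,true), (4,true), (5,false), (5,true), (6,true), (7,false), (7,true), (8,false), (8,true), (9,true), (10,false), (10,true), (11,false), (11,true), (12,true), (13,false), (13,true), (15,false), (15,true), (16,false), (16,true), (17,true), (18,false), (18,true), (20,false), (20,true), (21,false), (21,true), (22,true), (23,false), (23,true), (24,true), (25,false), (25,true), (27,false), (27,true), (28,false), (28,true), (29,true), (30,false), (32,false), (32,true), (34,false), (34,true), (35,false), (35,true), (36,true), (38,true), (39,true), (40,false), (40,true), (41,true), (42,false), (42,true), (44,false), (44,true), (45,false), (45,true), (46,true), (47,true), (48,false), (48,true), (49,true), (50,false), (50,true), (52,false), (52,true), (53,false), (53,true), (54,false), (54,true), (55,false), (55,true), (56,true), (58,true), (59,true), (60,false), (60,true), (61,true), (62,false), (62,true), (64,false), (64,true), (65,false), (65,true), (66,false), (66,true), (67,true), (69,true), (70,true), (71,false), (71,true), (72,true), (73,false), (73,true), (75,false), (75,true), (77,false), (77,true), (79,true), (80,false), (80,true), (81,false), (81,true), (83,true), (85,true), (86,true), (87,false), (87,true), (88,true), (89,false),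 (91,false), (91,true), (93,true), (94,false), (94,true), (95,false), (95,true), (97,true), (99,true), (100,true), (101,false), (101,true), (102,true), (103,false), (104,true), (105,false), (105,true), (106,false), (106,true), (108,false), (110,false), (110,true), (111,false), (111,true), (112,false), (112,true), (116,true), (117,true), (118,true), (119,false), (120,true), (124,false), (125,true), (126,false), (126,true), (131,true), (133,true), (136,false), (136,true), (137,true), (138,true), (141,false), (143,true), (144,true), (147,true), (148,false), (148,true), (149,true), (150,false), (152,true)]

/-- The words along the tree. -/
def wordL : List (List Bool) :=
  [[],
   [false],
   [true],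
   [false,true],
   [true,false],
   [true,true],
   [false,true,false],
   [false,true,true],
   [true,false,true],
   [true,true,false],
   [true,true,true],
   [false,true,false,true],
   [false,true,true,false],
   [false,true,true,true],
   [true,false,true,false],
   [true,false,true,true],
   [true,true,false,true],
   [true,true,true,false],
   [true,true,true,true],
   [false,true,false,true,false],
   [false,true,false,true,true],
   [false,true,true,false,true],
   [false,true,true,true,false],
   [false,true,true,true,true],
   [true,false,true,true,false],
   [true,false,true,true,true],
   [true,true,false,true,false],
   [true,true,false,true,true],
   [true,true,true,false,true],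
   [true,true,true,true,false],
   [true,true,true,true,true],
   [false,true,false,true,true,false],
   [false,true,false,true,true,true],
   [false,true,true,false,true,false],
   [false,true,true,false,true,true],
   [false,true,true,true,false,true],
   [false,true,true,true,true,false],
   [false,true,true,true,true,true],
   [true,false,true,true,false,true],
   [true,false,true,true,true,false],
   [true,false,true,true,true,true],
   [true,true,false,true,true,false],
   [true,true,false,true,true,true],
   [true,true,true,false,true,false],
   [true,true,true,false,true,true],
   [true,true,true,true,false,true],
   [true,true,true,true,true,false],
   [false,true,false,true,true,true,false],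
   [false,true,false,true,true,true,true],
   [false,true,true,false,true,true,false],
   [false,true,true,false,true,true,true],
   [false,true,true,true,false,true,false],
   [false,true,true,true,false,true,true],
   [false,true,true,true,true,false,true],
   [true,false,true,true,false,true,true],
   [true,false,true,true,true,false,true],
   [true,false,true,true,true,true,false],
   [true,false,true,true,true,true,true],
   [true,true,false,true,true,false,true],
   [true,true,false,true,true,true,false],
   [true,true,false,true,true,true,true],
   [true,true,true,false,true,true,false],
   [true,true,true,false,true,true,true],
   [true,true,true,true,false,true,false],
   [true,true,true,true,false,true,true],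
   [true,true,true,true,true,false,true],
   [false,true,false,true,true,true,false,true],
   [false,true,false,true,true,true,true,false],
   [false,true,false,true,true,true,true,true],
   [false,true,true,false,true,true,false,true],
   [false,true,true,false,true,true,true,false],
   [false,true,true,false,true,true,true,true],
   [false,true,true,true,false,true,true,false],
   [false,true,true,true,false,true,true,true],
   [false,true,true,true,true,false,true,false],
   [false,true,true,true,true,false,true,true],
   [true,false,true,true,false,true,true,false],
   [true,false,true,true,false,true,true,true],
   [true,false,true,true,true,false,true,false],
   [true,false,true,true,true,false,true,true],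
   [true,false,true,true,true,true,false,true],
   [true,true,false,true,true,false,true,true],
   [true,true,false,true,true,true,false,true],
   [true,true,false,true,true,true,true,false],
   [true,true,false,true,true,true,true,true],
   [true,true,true,false,true,true,false,true],
   [true,true,true,false,true,true,true,false],
   [true,true,true,false,true,true,true,true],
   [true,true,true,true,false,true,true,false],
   [true,true,true,true,false,true,true,true],
   [true,true,true,true,true,false,true,false],
   [true,true,true,true,true,false,true,true],
   [false,true,false,true,true,true,false,true,false],
   [false,true,false,true,true,true,false,true,true],
   [false,true,false,true,true,true,true,false,true],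
   [false,true,true,false,true,true,false,true,true],
   [false,true,true,false,true,true,true,false,true],
   [false,true,true,false,true,true,true,true,false],
   [false,true,true,false,true,true,true,true,true],
   [false,true,true,true,false,true,true,false,true],
   [false,true,true,true,false,true,true,true,false],
   [false,true,true,true,false,true,true,true,true],
   [false,true,true,true,true,false,true,true,false],
   [false,true,true,true,true,false,true,true,true],
   [true,false,true,true,false,true,true,true,false],
   [true,false,true,true,false,true,true,true,true],
   [true,false,true,true,true,false,true,true,true],
   [true,false,true,true,true,true,false,true,false],
   [true,false,true,true,true,true,false,true,true],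
   [true,true,false,true,true,false,true,true,false],
   [true,true,false,true,true,false,true,true,true],
   [true,true,false,true,true,true,true,false,true],
   [true,true,true,false,true,true,false,true,true],
   [true,true,true,false,true,true,true,false,true],
   [true,true,true,false,true,true,true,true,false],
   [true,true,true,false,true,true,true,true,true],
   [true,true,true,true,false,true,true,false,true],
   [true,true,true,true,false,true,true,true,false],
   [true,true,true,true,true,false,true,true,false],
   [true,true,true,true,true,false,true,true,true],
   [false,true,false,true,true,true,false,true,true,true],
   [false,true,false,true,true,true,true,false,true,false],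
   [false,true,false,true,true,true,true,false,true,true],
   [false,true,true,false,true,true,false,true,true,false],
   [false,true,true,false,true,true,false,true,true,true],
   [false,true,true,false,true,true,true,true,false,true],
   [false,true,true,true,false,true,true,false,true,true],
   [false,true,true,true,false,true,true,true,false,true],
   [false,true,true,true,false,true,true,true,true,false],
   [false,true,true,true,false,true,true,true,true,true],
   [false,true,true,true,true,false,true,true,false,true],
   [false,true,true,true,true,false,true,true,true,false],
   [true,false,true,true,false,true,true,true,false,true],
   [true,false,true,true,false,true,true,true,true,false],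
   [true,false,true,true,false,true,true,true,true,true],
   [true,false,true,true,true,false,true,true,true,false],
   [true,false,true,true,true,false,true,true,true,true],
   [true,false,true,true,true,true,false,true,true,false],
   [true,true,false,true,true,false,true,true,true,false],
   [true,true,false,true,true,false,true,true,true,true],
   [true,true,false,true,true,true,true,false,true,false],
   [true,true,false,true,true,true,true,false,true,true],
   [true,true,true,false,true,true,false,true,true,false],
   [true,true,true,false,true,true,false,true,true,true],
   [true,true,true,true,false,true,true,false,true,true],
   [true,true,true,true,false,true,true,true,false,true],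
   [true,true,true,true,true,false,true,true,false,true],
   [true,true,true,true,true,false,true,true,true,false],
   [false,true,false,true,true,true,false,true,true,true,true],
   [false,true,true,false,true,true,false,true,true,true,false],
   [false,true,true,false,true,true,true,true,false,true,true],
   [false,true,true,true,false,true,true,false,true,true,false],
   [false,true,true,true,false,true,true,false,true,true,true],
   [false,true,true,true,true,false,true,true,true,false,true],
   [true,false,true,true,false,true,true,true,true,false,true],
   [true,false,true,true,true,false,true,true,true,true,false],
   [true,false,true,true,true,false,true,true,true,true,true],
   [true,false,true,true,true,true,false,true,true,false,true],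
   [true,true,false,true,true,false,true,true,true,false,true],
   [true,true,false,true,true,true,true,false,true,true,false],
   [true,true,true,false,true,true,false,true,true,true,true],
   [true,true,true,true,false,true,true,false,true,true,true],
   [true,true,true,true,true,false,true,true,true,false,true],
   [false,true,false,true,true,true,false,true,true,true,true,false],
   [false,true,false,true,true,true,false,true,true,true,true,true],
   [false,true,true,false,true,true,false,true,true,true,false,true],
   [false,true,true,false,true,true,true,true,false,true,true,false],
   [false,true,true,true,false,true,true,false,true,true,true,true]]

/-- The deductions: node, relation, position. -/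
def deds : List (Nat × Nat × Nat) :=
  [(0,0,1), (0,2,5), (1,2,5), (2,0,1), (2,1,4), (3,0,1), (3,1,4), (4,2,5), (5,0,1), (6,2,5), (7,0,1), (8,0,1), (8,1,4), (9,2,5), (10,0,1), (11,0,1), (11,1,4), (12,2,5), (13,0,1), (14,2,4), (15,0,1), (16,0,1), (16,1,4), (17,2,5), (18,0,1), (20,0,1), (21,0,1), (21,1,4), (22,2,5), (23,0,1), (24,2,5), (25,0,1), (26,2,4), (27,0,1), (28,0,1), (28,1,4), (29,2,5), (30,0,1), (31,2,5), (32,0,1), (33,2,4), (34,0,1), (35,0,1), (35,1,4), (37,0,0), (37,2,3), (38,1,4), (39,2,5), (40,0,1), (42,0,1), (43,2,4), (44,0,1), (45,0,1), (46,2,5), (47,2,5), (48,0,1), (50,0,1), (51,2,4), (52,0,1), (53,0,1), (54,0,1), (55,0,1), (55,1,4), (57,0,0), (57,2,3), (57,3,4), (58,1,5), (59,2,5), (60,0,1), (62,0,1), (63,2,4), (64,0,1), (65,0,1), (66,0,1), (66,1,4), (68,0,0), (68,2,3), (68,3,3), (69,1,5), (70,2,4), (71,0,1), (73,0,1), (74,2,4), (75,0,1), (77,0,1), (80,0,1), (81,0,1), (82,2,0), (84,0,0), (84,2,3), (84,3,4), (85,1,5), (86,3,19), (87,0,1), (89,0,1), (91,0,1), (94,0,1), (95,0,1), (95,3,4), (96,0,0), (98,0,0), (98,2,3), (100,3,19), (101,0,1), (101,2,1), (101,3,3), (103,0,1), (103,1,2), (104,2,4), (105,0,1), (105,3,2), (106,0,1), (106,3,1), (107,2,4), (108,0,1), (108,1,0), (109,2,4), (110,0,1), (111,0,1), (111,3,17), (112,0,1), (113,2,0), (115,0,0), (115,2,2), (117,3,3), (119,0,1), (119,1,0), (122,0,0), (122,2,2), (124,0,1), (125,0,1), (126,0,1), (129,0,0), (129,2,1),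 (131,2,5), (132,0,0), (134,3,0), (135,2,3), (136,0,1), (137,3,17), (138,2,5), (138,3,18), (140,2,3), (141,0,1), (141,1,0), (141,3,15), (142,2,2), (142,3,14), (143,0,1), (144,1,4), (144,3,4), (145,0,0), (145,3,10), (146,2,0), (148,0,1), (148,2,1), (150,0,1), (150,1,0), (150,3,15), (151,3,3), (152,1,3), (152,3,15), (153,2,0), (153,3,10), (155,2,2), (158,3,10), (161,0,1), (162,0,0), (54,3,15)]

end Cfsg.Agent.HeCent
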