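import Cfsg.Agent.Lib.HeUniq.Cent.Data
import Mathlib.Data.Nat.Bitwise
import Mathlib.Data.List.Basic
import Mathlib.Algebra.Group.Basic

/-!
The six candidates for the centraliser of an involution in a group of Held type: arithmetic on the extraspecial
group of order 128 by seven bits (u, v, c) and a table of cosets of it.
-/

set_option autoImplicit false

namespace Cfsg.Agent.HeCent

/-- The parity of three bits. -/
def par3 (n : ℕ) : ℕ := (n ^^^ (n >>> 1) ^^^ (n >>> 2)) &&& 1

/-- Multiplication in the extraspecial group. -/
def qmul (a b : ℕ) : ℕ := a ^^^ b ^^^ (par3 ((a >>> 3) &&& b &&& 7) <<< 6)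

/-- The inverse. -/
def qinv (a : ℕ) : ℕ := a ^^^ (par3 ((a >>> 3) &&& a &&& 7) <<< 6)

/-- The image of an element of a given basis position, selected by a bit. -/
def selQ (imgs : List ℕ) (q i : ℕ) : ℕ := bif q.testBit i then (imgs.getD i 0) &&& 127 else 0

/-- The map fixing the central element with given images of the six generators. -/
def autQ (imgs : List ℕ) (q : ℕ) : ℕ :=
  qmul (qmul (qmul (qmul (qmul (qmul (selQ imgs q 0) (selQ imgs q 1)) (selQ imgs q 2)) (selQ imgs q 3))
    (selQ imgs q 4)) (selQ imgs q 5)) (q &&& 64)

/-- The images under the element of order seven. -/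
def imgS : List ℕ := [2, 4, 3, 24, 32, 8]

/-- The images under the element of order three. -/
def imgB : List ℕ := [1, 4, 6, 8, 48, 16]

/-- The images under the involution, by type of the module. -/
def imgX : ℕ → List ℕ
  | 0 => [1, 4, 2, 8, 32, 16]
  | 1 => [1, 4, 2, 8, 34, 20]
  | _ => [1, 20, 34, 8, 32, 16]

/-- The type of the module of a case. -/
def typeOf (k : ℕ) : ℕ := k % 3

/-- The square of the involution of a case. -/
def epsOf (k : ℕ) : ℕ := 64 * (k / 3)

/-- The fourth power relation by type. -/
def qFour : ℕ → ℕ
  | 0 => 0
  | 1 => 5
  | _ => 40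

/-- The action of a letter. -/
def tab (k : ℕ) (l : Bool) (q : ℕ) : ℕ := bif l then autQ imgS q else autQ (imgX (typeOf k)) q

/-- The action of a word. -/
def act (k : ℕ) (w : List Bool) (q : ℕ) : ℕ := w.foldr (fun l r => tab k l r) q

/-- The relations of a case. -/
def rels (k : ℕ) : List (List Bool × ℕ) :=
  [([false, false], epsOf k),
   ([true, true, true, true, true, true, true], 0),
   ([false, true, false, true, false, true], 0),
   ([false, true, true, true, true, false, true, true, true, true, false, true, true, true, true, false, true,
      true, true, true], qFour (typeOf k) ^^^ epsOf k)]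

/-- The table of a case. -/
def ceeT : ℕ → ℕ
  | 0 => ceeT0
  | 1 => ceeT1
  | 2 => ceeT2
  | 3 => ceeT3
  | 4 => ceeT4
  | _ => ceeT5

/-- The index of an edge. -/
def edge (i : ℕ) (l : Bool) : ℕ := 2 * i + (bif l then 1 else 0)

/-- The next node. -/
def stp (i : ℕ) (l : Bool) : ℕ := (stpT >>> (8 * edge i l)) &&& 255

/-- The correction of an edge. -/
def cee (k i : ℕ) (l : Bool) : ℕ := (ceeT k >>> (8 * edge i l)) &&& 127

/-- The word of a node. -/
def wordN (i : ℕ) : List Bool := wordL.getD i []

/-- Following a word along known edges. -/
def walk (k known : ℕ) : List Bool → ℕ → Option (ℕ × ℕ)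
  | [], i => some (0, i)
  | l :: w, i => bif known.testBit (edge i l) then
      (match walk k known w (stp i l) with
        | some (a, p) => some (qmul (cee k i l) a, p)
        | none => none)
    else none

/-- One deduction. -/
def dedOK (k known i r pos : ℕ) : Option ℕ :=
  match (rels k)[r]? with
  | none => none
  | some (w, t) =>
    match w.drop pos with
    | [] => none
    | l :: suf =>
      match walk k known (w.take pos) i with
      | none => none
      | some (a, p) =>
        match walk k known suf (stp p l) with
        | none => none
        | some (b, j) =>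
          bif Nat.beq j i && Nat.blt t 128 && Nat.beq (qmul a (qmul (cee k p l) b)) (act k (wordN i) t)
          then some (known ||| (1 <<< edge p l)) else none

/-- All deductions. -/
def runDeds (k : ℕ) : List (ℕ × ℕ × ℕ) → ℕ → Option ℕ
  | [], known => some known
  | (i, r, pos) :: rest, known =>
    match dedOK k known i r pos with
    | none => none
    | some known' => runDeds k rest known'

/-- The edges of the tree. -/
def treeOK (k : ℕ) : List (ℕ × Bool) → ℕ → ℕ → Option ℕ
  | [], _, known => some known
  | (p, l) :: rest, i, known =>
    bif Nat.beq (stp p l) i && Nat.beq (cee k p l) 0 && (wordN i == wordN p ++ [l]) then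
      treeOK k rest (i + 1) (known ||| (1 <<< edge p l))
    else none

/-- The table of a case is correct. -/
def tableOK (k : ℕ) : Bool :=
  (wordN 0 == []) &&
  match treeOK k parents 1 0 with
  | none => false
  | some known =>
    match runDeds k deds known with
    | none => false
    | some full => Nat.beq full (2 ^ 336 - 1) && (List.range 336).all (fun e => Nat.blt ((stpT >>> (8 * e)) &&& 255) 168)

/-- The node code of an action: the images of the six generators modulo the centre. -/
def actKey (k i : ℕ) : List ℕ := [1, 2, 4, 8, 16, 32].map fun g => act k (wordN i) g &&& 63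

/-- Distinct nodes act differently. -/
def distinctOK (k : ℕ) : Bool :=
  (List.range 168).all fun i => (List.range 168).all fun j => Nat.beq i j || !(actKey k i == actKey k j)

/-- One step of the normal form. -/
def stepN (k n : ℕ) (l : Bool) : ℕ := qmul (n % 128) (cee k (n / 128) l) + 128 * stp (n / 128) l

/-- The product of two normal forms. -/
def mulN (k n m : ℕ) : ℕ :=
  (wordN (m / 128)).foldl (stepN k) (qmul (n % 128) (act k (wordN (n / 128)) (m % 128)) + 128 * (n / 128))

end Cfsg.Agent.HeCent
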