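import Cfsg.Agent.Lib.HeUniq.Cent.Defs
import Mathlib.Tactic
import Mathlib.GroupTheory.QuotientGroup.Basic

/-!
An extraspecial normal subgroup of order 128 containing its centraliser, with an element of order seven: signs of
commutators and squares, and coordinates from a hyperbolic basis.
-/

set_option autoImplicit false
set_option maxHeartbeats 400000

namespace Cfsg.Agent.HeCent

/-- The hypotheses on the subgroup. -/
structure Ext {C : Type*} [Group C] (Q : Subgroup C) (z : C) : Prop where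
  zz : z * z = 1
  ne : z ≠ 1
  central : ∀ g : C, g * z = z * g
  mem : z ∈ Q
  comm : ∀ a ∈ Q, ∀ b ∈ Q, a * b = b * a ∨ a * b = b * a * z
  square : ∀ a ∈ Q, a * a = 1 ∨ a * a = z
  card : Nat.card Q = 128
  center : ∀ a ∈ Q, (∀ b ∈ Q, a * b = b * a) → a = 1 ∨ a = z
  faithful : ∀ g : C, (∀ a ∈ Q, g * a = a * g) → g ∈ Q
  normal : ∀ g : C, ∀ a ∈ Q, g * a * g⁻¹ ∈ Q

/-- A power by a bit. -/
def pw {C : Type*} [Group C] (g : C) (b : Bool) : C := bif b then g else 1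

section

variable {C : Type*} [Group C] {Q : Subgroup C} {z : C} (hX : Ext Q z)

theorem pw_xor {g : C} (hg : g * g = 1) (a b : Bool) : pw g a * pw g b = pw g (a ^^ b) := by
  cases a <;> cases b <;> simp [pw, hg]

theorem pw_mem {g : C} (hg : g ∈ Q) (a : Bool) : pw g a ∈ Q := by
  cases a <;> simp [pw, hg, one_mem]

include hX in
theorem Ext.zp_xor (a b : Bool) : pw z a * pw z b = pw z (a ^^ b) := pw_xor hX.zz a b

include hX in
theorem Ext.zp_comm (g : C) (a : Bool) : g * pw z a = pw z a * g := by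
  cases a <;> simp [pw, hX.central]

include hX in
theorem Ext.zp_inj {a b : Bool} (h : pw z a = pw z b) : a = b := by
  cases a <;> cases b <;> simp [pw, hX.ne] at h ⊢
  exact hX.ne h.symm

include hX in
theorem Ext.zp_mem (a : Bool) : pw z a ∈ Q := pw_mem hX.mem a

open scoped Classical in
/-- The sign of a commutator. -/
noncomputable def cb (a b : C) : Bool := !decide (a * b = b * a)

open scoped Classical in
/-- The sign of a square. -/
noncomputable def sb (a : C) : Bool := !decide (a * a = 1)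

theorem cb_eq_false {a b : C} : cb a b = false ↔ a * b = b * a := by simp [cb]

theorem sb_eq_false {a : C} : sb a = false ↔ a * a = 1 := by simp [sb]

theorem cb_symm (a b : C) : cb a b = cb b a := by
  simp [cb, eq_comm]

theorem cb_self (a : C) : cb a a = false := cb_eq_false.2 rfl

theorem cb_one (a : C) : cb a 1 = false := cb_eq_false.2 (by simp)

theorem cb_conj (g a b : C) : cb (g * a * g⁻¹) (g * b * g⁻¹) = cb a b := by
  simp only [cb]
  congr 2
  simp [conj_mul]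

namespace Ext

include hX

theorem swap {a b : C} (ha : a ∈ Q) (hb : b ∈ Q) : a * b = b * a * pw z (cb a b) := by
  rcases hX.comm a ha b hb with h | h
  · rw [cb_eq_false.2 h]; simp [pw, h]
  · have : cb a b = true := by
      simp only [cb, Bool.not_eq_true', decide_eq_false_iff_not]
      intro h'
      exact hX.ne (mul_eq_left.1 (h ▸ h'))
    rw [this]; exact h

theorem sq_eq {a : C} (ha : a ∈ Q) : a * a = pw z (sb a) := by
  rcases hX.square a ha with h | h
  · rw [sb_eq_false.2 h, h]; rfl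
  · have : sb a = true := by simp [sb, h, hX.ne]
    rw [this, h]; rfl

theorem cb_mul {a b c : C} (ha : a ∈ Q) (hb : b ∈ Q) (hc : c ∈ Q) : cb a (b * c) = (cb a b ^^ cb a c) := by
  refine hX.zp_inj ?_
  have h := hX.swap ha (mul_mem hb hc)
  have : a * (b * c) = b * c * a * pw z (cb a b ^^ cb a c) := by
    rw [← hX.zp_xor, hX.zp_comm (pw z (cb a b)) (cb a c)]
    calc a * (b * c) = a * b * c := (mul_assoc _ _ _).symm
      _ = b * a * pw z (cb a b) * c := by rw [hX.swap ha hb]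
      _ = b * (a * c) * pw z (cb a b) := by rw [mul_assoc, ← hX.zp_comm c]; group
      _ = b * (c * a * pw z (cb a c)) * pw z (cb a b) := by rw [hX.swap ha hc]
      _ = _ := by group
  exact mul_left_cancel (h.symm.trans this)

theorem cb_mul_left {a b c : C} (ha : a ∈ Q) (hb : b ∈ Q) (hc : c ∈ Q) :
    cb (b * c) a = (cb b a ^^ cb c a) := by
  rw [cb_symm, hX.cb_mul ha hb hc, cb_symm a b, cb_symm a c]

theorem cb_zp (a : C) (c : Bool) : cb a (pw z c) = false := cb_eq_false.2 (hX.zp_comm a c)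

theorem cb_pw {a b : C} (c : Bool) : cb a (pw b c) = (cb a b && c) := by
  cases c <;> simp [pw, cb_one]

theorem sb_mul {a b : C} (ha : a ∈ Q) (hb : b ∈ Q) : sb (a * b) = (sb a ^^ sb b ^^ cb b a) := by
  refine hX.zp_inj ?_
  rw [← hX.sq_eq (mul_mem ha hb), ← hX.zp_xor, ← hX.zp_xor, ← hX.sq_eq ha, ← hX.sq_eq hb]
  calc a * b * (a * b) = a * (b * a) * b := by group
    _ = a * (a * b * pw z (cb b a)) * b := by rw [← hX.swap hb ha]
    _ = a * a * (b * b) * pw z (cb b a) := by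
      simp only [mul_assoc]; rw [← hX.zp_comm b]

theorem pw_swap {a b : C} (ha : a ∈ Q) (hb : b ∈ Q) (i j : Bool) :
    pw a i * pw b j = pw b j * pw a i * pw z (cb a b && i && j) := by
  cases i <;> cases j <;> simp [pw, Bool.and_false]
  exact hX.swap ha hb

end Ext

/-- A hyperbolic basis. -/
structure Frame (Q : Subgroup C) where
  /-- The first half. -/
  e : Fin 3 → C
  /-- The second half. -/
  f : Fin 3 → C
  eQ : ∀ i, e i ∈ Q
  fQ : ∀ i, f i ∈ Q
  ee : ∀ i j, cb (e i) (e j) = false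
  ff : ∀ i j, cb (f i) (f j) = false
  ef : ∀ i j, cb (e i) (f j) = decide (i = j)
  esq : ∀ i, e i * e i = 1
  fsq : ∀ i, f i * f i = 1

namespace Frame

variable (F : Frame Q)

/-- A product of the first half. -/
def E (a b c : Bool) : C := pw (F.e 0) a * pw (F.e 1) b * pw (F.e 2) c

/-- A product of the second half. -/
def D (a b c : Bool) : C := pw (F.f 0) a * pw (F.f 1) b * pw (F.f 2) c

/-- The element of a code. -/
def io (z : C) (n : ℕ) : C :=
  F.E (n.testBit 0) (n.testBit 1) (n.testBit 2) * F.D (n.testBit 3) (n.testBit 4) (n.testBit 5) *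
    pw z (n.testBit 6)

theorem E_mem (a b c : Bool) : F.E a b c ∈ Q :=
  mul_mem (mul_mem (pw_mem (F.eQ 0) _) (pw_mem (F.eQ 1) _)) (pw_mem (F.eQ 2) _)

theorem D_mem (a b c : Bool) : F.D a b c ∈ Q :=
  mul_mem (mul_mem (pw_mem (F.fQ 0) _) (pw_mem (F.fQ 1) _)) (pw_mem (F.fQ 2) _)

end Frame

theorem pw_comm {g h : C} (hgh : g * h = h * g) (a b : Bool) : pw g a * pw h b = pw h b * pw g a := by
  cases a <;> cases b <;> simp [pw, hgh]

theorem triple_mul {g₀ g₁ g₂ : C} (h₀ : g₀ * g₀ = 1) (h₁ : g₁ * g₁ = 1) (h₂ : g₂ * g₂ = 1)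
    (c01 : g₀ * g₁ = g₁ * g₀) (c02 : g₀ * g₂ = g₂ * g₀) (c12 : g₁ * g₂ = g₂ * g₁) (a b c a' b' c' : Bool) :
    pw g₀ a * pw g₁ b * pw g₂ c * (pw g₀ a' * pw g₁ b' * pw g₂ c') =
      pw g₀ (a ^^ a') * pw g₁ (b ^^ b') * pw g₂ (c ^^ c') := by
  rw [← pw_xor h₀, ← pw_xor h₁, ← pw_xor h₂]
  simp only [mul_assoc]
  congr 1
  rw [← mul_assoc (pw g₂ c) (pw g₀ a'), ← pw_comm c02, mul_assoc (pw g₀ a'), ← mul_assoc (pw g₁ b) (pw g₀ a'),
    ← pw_comm c01, mul_assoc (pw g₀ a')]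
  congr 2
  rw [← mul_assoc (pw g₂ c) (pw g₁ b'), ← pw_comm c12, mul_assoc (pw g₁ b')]

theorem qmul_bits : ∀ a < 128, ∀ b < 128,
    (qmul a b).testBit 0 = (a.testBit 0 ^^ b.testBit 0) ∧ (qmul a b).testBit 1 = (a.testBit 1 ^^ b.testBit 1) ∧
    (qmul a b).testBit 2 = (a.testBit 2 ^^ b.testBit 2) ∧ (qmul a b).testBit 3 = (a.testBit 3 ^^ b.testBit 3) ∧
    (qmul a b).testBit 4 = (a.testBit 4 ^^ b.testBit 4) ∧ (qmul a b).testBit 5 = (a.testBit 5 ^^ b.testBit 5) ∧
    (qmul a b).testBit 6 = (a.testBit 6 ^^ b.testBit 6 ^^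
      ((a.testBit 3 && b.testBit 0) ^^ (a.testBit 4 && b.testBit 1) ^^ (a.testBit 5 && b.testBit 2))) := by
  decide +kernel

theorem bits_inj : ∀ a < 128, ∀ b < 128, (∀ i < 7, a.testBit i = b.testBit i) → a = b := by
  intro a ha b hb h
  refine Nat.eq_of_testBit_eq fun i => ?_
  rcases Nat.lt_or_ge i 7 with hi | hi
  · exact h i hi
  · have h7 : 2 ^ 7 ≤ 2 ^ i := Nat.pow_le_pow_right (by norm_num) hi
    rw [Nat.testBit_lt_two_pow (lt_of_lt_of_le ha h7), Nat.testBit_lt_two_pow (lt_of_lt_of_le hb h7)]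

namespace Frame

variable (F : Frame Q)

include hX

theorem cb_E (g : C) (hg : g ∈ Q) (a b c : Bool) :
    cb g (F.E a b c) = ((cb g (F.e 0) && a) ^^ (cb g (F.e 1) && b) ^^ (cb g (F.e 2) && c)) := by
  rw [E, hX.cb_mul hg (mul_mem (pw_mem (F.eQ 0) _) (pw_mem (F.eQ 1) _)) (pw_mem (F.eQ 2) _),
    hX.cb_mul hg (pw_mem (F.eQ 0) _) (pw_mem (F.eQ 1) _), hX.cb_pw, hX.cb_pw, hX.cb_pw]

theorem cb_D (g : C) (hg : g ∈ Q) (a b c : Bool) :
    cb g (F.D a b c) = ((cb g (F.f 0) && a) ^^ (cb g (F.f 1) && b) ^^ (cb g (F.f 2) && c)) := by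
  rw [D, hX.cb_mul hg (mul_mem (pw_mem (F.fQ 0) _) (pw_mem (F.fQ 1) _)) (pw_mem (F.fQ 2) _),
    hX.cb_mul hg (pw_mem (F.fQ 0) _) (pw_mem (F.fQ 1) _), hX.cb_pw, hX.cb_pw, hX.cb_pw]

theorem io_mem (n : ℕ) : F.io z n ∈ Q := mul_mem (mul_mem (F.E_mem _ _ _) (F.D_mem _ _ _)) (hX.zp_mem _)

theorem io_mul {a b : ℕ} (ha : a < 128) (hb : b < 128) : F.io z a * F.io z b = F.io z (qmul a b) := by
  obtain ⟨h0, h1, h2, h3, h4, h5, h6⟩ := qmul_bits a ha b hb
  simp only [io, h0, h1, h2, h3, h4, h5, h6]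
  set A := F.E (a.testBit 0) (a.testBit 1) (a.testBit 2)
  set B := F.E (b.testBit 0) (b.testBit 1) (b.testBit 2) with hB
  set A' := F.D (a.testBit 3) (a.testBit 4) (a.testBit 5) with hA'
  set B' := F.D (b.testBit 3) (b.testBit 4) (b.testBit 5)
  have hsw : A' * B = B * A' * pw z ((a.testBit 3 && b.testBit 0) ^^ (a.testBit 4 && b.testBit 1) ^^
      (a.testBit 5 && b.testBit 2)) := by
    rw [hX.swap (F.D_mem _ _ _) (F.E_mem _ _ _)]
    congr 2
    rw [F.cb_E hX _ (F.D_mem _ _ _), cb_symm (F.D _ _ _), cb_symm (F.D _ _ _), cb_symm (F.D _ _ _), F.cb_D hX _ (F.eQ 0),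
      F.cb_D hX _ (F.eQ 1), F.cb_D hX _ (F.eQ 2)]
    simp [F.ef]
  have hee : ∀ i j, F.e i * F.e j = F.e j * F.e i := fun i j => cb_eq_false.1 (F.ee i j)
  have hff : ∀ i j, F.f i * F.f j = F.f j * F.f i := fun i j => cb_eq_false.1 (F.ff i j)
  have hE : A * B = F.E (a.testBit 0 ^^ b.testBit 0) (a.testBit 1 ^^ b.testBit 1) (a.testBit 2 ^^ b.testBit 2) :=
    triple_mul (F.esq 0) (F.esq 1) (F.esq 2) (hee 0 1) (hee 0 2) (hee 1 2) _ _ _ _ _ _
  have hD : A' * B' = F.D (a.testBit 3 ^^ b.testBit 3) (a.testBit 4 ^^ b.testBit 4) (a.testBit 5 ^^ b.testBit 5) :=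
    triple_mul (F.fsq 0) (F.fsq 1) (F.fsq 2) (hff 0 1) (hff 0 2) (hff 1 2) _ _ _ _ _ _
  rw [← hE, ← hD, ← hX.zp_xor (a.testBit 6 ^^ b.testBit 6), ← hX.zp_xor (a.testBit 6)]
  have hc := hX.zp_comm
  calc A * A' * pw z (a.testBit 6) * (B * B' * pw z (b.testBit 6))
      = A * A' * (pw z (a.testBit 6) * (B * B')) * pw z (b.testBit 6) := by group
    _ = A * (A' * B) * B' * (pw z (a.testBit 6) * pw z (b.testBit 6)) := by
        rw [← hc (B * B')]; group
    _ = A * B * (A' * (pw z ((a.testBit 3 && b.testBit 0) ^^ (a.testBit 4 && b.testBit 1) ^^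
          (a.testBit 5 && b.testBit 2)) * B')) * (pw z (a.testBit 6) * pw z (b.testBit 6)) := by
        rw [hsw]; group
    _ = _ := by
        rw [← hc B', hc (pw z (a.testBit 6) * pw z (b.testBit 6))]; group

theorem io_inj {a b : ℕ} (ha : a < 128) (hb : b < 128) (h : F.io z a = F.io z b) : a = b := by
  have key : ∀ (n : ℕ) (g : C), g ∈ Q → cb g (F.io z n) =
      ((cb g (F.e 0) && n.testBit 0) ^^ (cb g (F.e 1) && n.testBit 1) ^^ (cb g (F.e 2) && n.testBit 2) ^^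
        ((cb g (F.f 0) && n.testBit 3) ^^ (cb g (F.f 1) && n.testBit 4) ^^ (cb g (F.f 2) && n.testBit 5))) := by
    intro n g hg
    rw [io, hX.cb_mul hg (mul_mem (F.E_mem _ _ _) (F.D_mem _ _ _)) (hX.zp_mem _),
      hX.cb_mul hg (F.E_mem _ _ _) (F.D_mem _ _ _), hX.cb_zp, F.cb_E hX g hg, F.cb_D hX g hg,
      Bool.xor_false]
  have hf : ∀ i, cb (F.f i) (F.io z a) = cb (F.f i) (F.io z b) := fun i => by rw [h]
  have he : ∀ i, cb (F.e i) (F.io z a) = cb (F.e i) (F.io z b) := fun i => by rw [h]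
  have f0 := hf 0; have f1 := hf 1; have f2 := hf 2
  have e0 := he 0; have e1 := he 1; have e2 := he 2
  simp [key _ _ (F.fQ _), key _ _ (F.eQ _), F.ff, F.ee, F.ef, cb_symm (F.f _) (F.e _), -Nat.testBit_zero] at f0 f1 f2 e0 e1 e2
  refine bits_inj a ha b hb fun i hi => ?_
  interval_cases i <;> try assumption
  unfold io at h
  rw [f0, f1, f2, e0, e1, e2] at h
  exact hX.zp_inj (mul_left_cancel h)

theorem io_surj {g : C} (hg : g ∈ Q) : ∃ n < 128, F.io z n = g := by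
  have : Finite Q := Nat.finite_of_card_ne_zero (by rw [hX.card]; norm_num)
  have hb : Function.Bijective fun n : Fin 128 => (⟨F.io z n, F.io_mem hX n⟩ : Q) :=
    Nat.bijective_iff_injective_and_card _ |>.2
      ⟨fun a b h => Fin.ext (F.io_inj hX a.2 b.2 (congrArg Subtype.val h)), by rw [Nat.card_fin, hX.card]⟩
  obtain ⟨n, hn⟩ := hb.2 ⟨g, hg⟩
  exact ⟨n, n.2, congrArg Subtype.val hn⟩

theorem io_zero : F.io z 0 = 1 := by simp [io, E, D, pw]

theorem io_z : F.io z 64 = z := by simp [io, E, D, pw, Nat.testBit, Nat.shiftRight_eq_div_pow]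

theorem io_gens : F.io z 1 = F.e 0 ∧ F.io z 2 = F.e 1 ∧ F.io z 4 = F.e 2 ∧ F.io z 8 = F.f 0 ∧
    F.io z 16 = F.f 1 ∧ F.io z 32 = F.f 2 := by
  refine ⟨?_, ?_, ?_, ?_, ?_, ?_⟩ <;> simp [io, E, D, pw, Nat.testBit, Nat.shiftRight_eq_div_pow]

end Frame

end

end Cfsg.Agent.HeCent
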