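import Cfsg.Agent.Lib.HeUniq.Cent.KillDefs
import Cfsg.Agent.Lib.HeUniq.Cent.KillData2

/-! The criterion on square roots for one case. -/

set_option autoImplicit false
set_option maxRecDepth 100000

namespace Cfsg.Agent.HeCent

open Cfsg.Agent.PermCert (allBelow allBelow_spec)

theorem allOK2 : rootT2.allOK 2 (excT2.map Prod.fst) = true := by decide +kernel

theorem sqTOK2 : sqTOK 2 sqT2 = true := by decide +kernel

theorem scan2_0 : allBelow (fun i => scanNode rootT2 (0 + i) (sqT2.getD (0 + i) (0, 0))) 21 = true := by decide +kernel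
theorem scan2_1 : allBelow (fun i => scanNode rootT2 (21 + i) (sqT2.getD (21 + i) (0, 0))) 21 = true := by decide +kernel
theorem scan2_2 : allBelow (fun i => scanNode rootT2 (42 + i) (sqT2.getD (42 + i) (0, 0))) 21 = true := by decide +kernel
theorem scan2_3 : allBelow (fun i => scanNode rootT2 (63 + i) (sqT2.getD (63 + i) (0, 0))) 21 = true := by decide +kernel
theorem scan2_4 : allBelow (fun i => scanNode rootT2 (84 + i) (sqT2.getD (84 + i) (0, 0))) 21 = true := by decide +kernel
theorem scan2_5 : allBelow (fun i => scanNode rootT2 (105 + i) (sqT2.getD (105 + i) (0, 0))) 21 = true := by decide +kernel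
theorem scan2_6 : allBelow (fun i => scanNode rootT2 (126 + i) (sqT2.getD (126 + i) (0, 0))) 21 = true := by decide +kernel
theorem scan2_7 : allBelow (fun i => scanNode rootT2 (147 + i) (sqT2.getD (147 + i) (0, 0))) 21 = true := by decide +kernel

theorem scan2 : ∀ i < 168, scanNode rootT2 i (sqT2.getD i (0, 0)) = true := by
  intro i hi
  by_cases h0 : i < 21
  · simpa [Nat.add_sub_cancel' (show 0 ≤ i by omega)] using allBelow_spec _ _ scan2_0 (i - 0) (by omega)
  by_cases h1 : i < 42
  · simpa [Nat.add_sub_cancel' (show 21 ≤ i by omega)] using allBelow_spec _ _ scan2_1 (i - 21) (by omega)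
  by_cases h2 : i < 63
  · simpa [Nat.add_sub_cancel' (show 42 ≤ i by omega)] using allBelow_spec _ _ scan2_2 (i - 42) (by omega)
  by_cases h3 : i < 84
  · simpa [Nat.add_sub_cancel' (show 63 ≤ i by omega)] using allBelow_spec _ _ scan2_3 (i - 63) (by omega)
  by_cases h4 : i < 105
  · simpa [Nat.add_sub_cancel' (show 84 ≤ i by omega)] using allBelow_spec _ _ scan2_4 (i - 84) (by omega)
  by_cases h5 : i < 126
  · simpa [Nat.add_sub_cancel' (show 105 ≤ i by omega)] using allBelow_spec _ _ scan2_5 (i - 105) (by omega)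
  by_cases h6 : i < 147
  · simpa [Nat.add_sub_cancel' (show 126 ≤ i by omega)] using allBelow_spec _ _ scan2_6 (i - 126) (by omega)
  by_cases h7 : i < 168
  · simpa [Nat.add_sub_cancel' (show 147 ≤ i by omega)] using allBelow_spec _ _ scan2_7 (i - 147) (by omega)
  omega

/-- The members of the exceptional class are involutions conjugate to the first, and there are fourteen. -/
theorem exc2 : (excT2.all fun t => Nat.blt t.1 128 && Nat.blt t.2 21504 &&
    Nat.beq (mulN 2 t.2 (excT2.getD 0 (0, 0)).1) (mulN 2 t.1 t.2) && !Nat.beq t.1 0 && !Nat.beq t.1 64) = true ∧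
    (excT2.map Prod.fst).Nodup ∧ excT2.length = 14 ∧ rootW2 < 21504 ∧ sqN 2 rootW2 = 64 := by
  decide +kernel


end Cfsg.Agent.HeCent
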