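import Cfsg.Agent.Lib.HeUniq.Cent.KillDefs
import Cfsg.Agent.Lib.HeUniq.Cent.KillData4

/-! The criterion on square roots for one case. -/

set_option autoImplicit false
set_option maxRecDepth 100000

namespace Cfsg.Agent.HeCent

open Cfsg.Agent.PermCert (allBelow allBelow_spec)

theorem allOK4 : rootT4.allOK 4 [] = true := by decide +kernel

theorem sqTOK4 : sqTOK 4 sqT4 = true := by decide +kernel

theorem scan4_0 : allBelow (fun i => scanNode rootT4 (0 + i) (sqT4.getD (0 + i) (0, 0))) 21 = true := by decide +kernel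
theorem scan4_1 : allBelow (fun i => scanNode rootT4 (21 + i) (sqT4.getD (21 + i) (0, 0))) 21 = true := by decide +kernel
theorem scan4_2 : allBelow (fun i => scanNode rootT4 (42 + i) (sqT4.getD (42 + i) (0, 0))) 21 = true := by decide +kernel
theorem scan4_3 : allBelow (fun i => scanNode rootT4 (63 + i) (sqT4.getD (63 + i) (0, 0))) 21 = true := by decide +kernel
theorem scan4_4 : allBelow (fun i => scanNode rootT4 (84 + i) (sqT4.getD (84 + i) (0, 0))) 21 = true := by decide +kernel
theorem scan4_5 : allBelow (fun i => scanNode rootT4 (105 + i) (sqT4.getD (105 + i) (0, 0))) 21 = true := by decide +kernel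
theorem scan4_6 : allBelow (fun i => scanNode rootT4 (126 + i) (sqT4.getD (126 + i) (0, 0))) 21 = true := by decide +kernel
theorem scan4_7 : allBelow (fun i => scanNode rootT4 (147 + i) (sqT4.getD (147 + i) (0, 0))) 21 = true := by decide +kernel

theorem scan4 : ∀ i < 168, scanNode rootT4 i (sqT4.getD i (0, 0)) = true := by
  intro i hi
  by_cases h0 : i < 21
  · simpa [Nat.add_sub_cancel' (show 0 ≤ i by omega)] using allBelow_spec _ _ scan4_0 (i - 0) (by omega)
  by_cases h1 : i < 42
  · simpa [Nat.add_sub_cancel' (show 21 ≤ i by omega)] using allBelow_spec _ _ scan4_1 (i - 21) (by omega)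
  by_cases h2 : i < 63
  · simpa [Nat.add_sub_cancel' (show 42 ≤ i by omega)] using allBelow_spec _ _ scan4_2 (i - 42) (by omega)
  by_cases h3 : i < 84
  · simpa [Nat.add_sub_cancel' (show 63 ≤ i by omega)] using allBelow_spec _ _ scan4_3 (i - 63) (by omega)
  by_cases h4 : i < 105
  · simpa [Nat.add_sub_cancel' (show 84 ≤ i by omega)] using allBelow_spec _ _ scan4_4 (i - 84) (by omega)
  by_cases h5 : i < 126
  · simpa [Nat.add_sub_cancel' (show 105 ≤ i by omega)] using allBelow_spec _ _ scan4_5 (i - 105) (by omega)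
  by_cases h6 : i < 147
  · simpa [Nat.add_sub_cancel' (show 126 ≤ i by omega)] using allBelow_spec _ _ scan4_6 (i - 126) (by omega)
  by_cases h7 : i < 168
  · simpa [Nat.add_sub_cancel' (show 147 ≤ i by omega)] using allBelow_spec _ _ scan4_7 (i - 147) (by omega)
  omega

end Cfsg.Agent.HeCent
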