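import Cfsg.Agent.Lib.HeUniq.Cent.Kill1
import Cfsg.Agent.Lib.HeUniq.Cent.Kill2
import Cfsg.Agent.Lib.HeUniq.Cent.Kill3
import Cfsg.Agent.Lib.HeUniq.Cent.Kill4
import Cfsg.Agent.Lib.HeUniq.Cent.Kill5
import Cfsg.Agent.Lib.BrauerSuzuki.ZStar
import Cfsg.Agent.Lib.NormCyclic.Pair
import Mathlib.GroupTheory.GroupAction.Quotient

/-!
In a simple group of the order of the Held group the centraliser of an involution is not one of five of the six
candidates: the central involution would be isolated.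
-/

set_option autoImplicit false
set_option maxHeartbeats 400000

namespace Cfsg.Agent.HeCent

open Subgroup

universe u

section

variable {G : Type u} [Group G] [Finite G] {t : G} {k : ℕ}
  (S : Sys ↥(centralizer ({t} : Set G)) k)

theorem memC {t g : G} : g ∈ centralizer ({t} : Set G) ↔ g * t = t * g :=
  mem_centralizer_singleton_iff

omit [Finite G] in
/-- Roots in the centraliser as roots in the group. -/
theorem ncard_coe (P : G → Prop) :
    {g : ↥(centralizer ({t} : Set G)) | P g}.ncard = {g : G | g ∈ centralizer ({t} : Set G) ∧ P g}.ncard := by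
  rw [← Set.ncard_image_of_injective _ Subtype.val_injective]
  congr 1
  ext g
  constructor
  · rintro ⟨⟨a, ha⟩, hp, rfl⟩; exact ⟨ha, hp⟩
  · rintro ⟨ha, hp⟩; exact ⟨⟨g, ha⟩, hp, rfl⟩

/-- An element of the centraliser conjugate to the central involution is exceptional. -/
theorem fused_exceptional (ht2 : t * t = 1) (ht1 : t ≠ 1) (hz : ((S.io 64 : _) : G) = t) {exc : List ℕ}
    (hroot : ∀ u : ↥(centralizer ({t} : Set G)), u * u = 1 → u ≠ 1 → u ≠ S.io 64 →
      {g | g * g = u}.ncard ≤ {g | g * g = S.io 64 ∧ g * u = u * g}.ncard ∧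
      ((∀ e ∈ exc, u ≠ S.phi e) → {g | g * g = u}.ncard < {g | g * g = S.io 64 ∧ g * u = u * g}.ncard))
    (u : ↥(centralizer ({t} : Set G))) (hne : (u : G) ≠ t) {h : G} (hh : h * (u : G) * h⁻¹ = t) :
    ∃ e ∈ exc, u = S.phi e := by
  set u' : G := h * t * h⁻¹ with hu'
  have hu'C : u' ∈ centralizer ({t} : Set G) := by
    refine memC.2 ?_
    rw [hu']
    calc h * t * h⁻¹ * t = h * t * h⁻¹ * (h * (u : G) * h⁻¹) := by rw [hh]
      _ = h * (t * (u : G)) * h⁻¹ := by group
      _ = h * ((u : G) * t) * h⁻¹ := by rw [← memC.1 u.2]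
      _ = h * (u : G) * h⁻¹ * (h * t * h⁻¹) := by group
      _ = t * (h * t * h⁻¹) := by rw [hh]
  have hu'2 : u' * u' = 1 := by
    rw [hu', show h * t * h⁻¹ * (h * t * h⁻¹) = h * (t * t) * h⁻¹ by group, ht2, mul_one, mul_inv_cancel]
  have hu'1 : u' ≠ 1 := fun e => ht1 (conj_eq_one_iff.1 e)
  have hu't : u' ≠ t := fun e => hne (by
    have : h * (u : G) * h⁻¹ = h * t * h⁻¹ := by rw [hh, ← hu', e]
    simpa using this)
  have hu2 : (u : G) * u = 1 := by
    have : h * ((u : G) * u) * h⁻¹ = 1 := by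
      rw [show h * ((u : G) * u) * h⁻¹ = h * (u : G) * h⁻¹ * (h * (u : G) * h⁻¹) by group, hh, ht2]
    exact conj_eq_one_iff.1 this
  have hu1 : (u : G) ≠ 1 := fun e => ht1 (by rw [← hh, e, mul_one, mul_inv_cancel])
  obtain ⟨leU, ltU⟩ := hroot u (Subtype.ext hu2) (fun e => hu1 (congrArg Subtype.val e))
    (fun e => hne (by rw [congrArg Subtype.val e, hz]))
  obtain ⟨leV, -⟩ := hroot ⟨u', hu'C⟩ (Subtype.ext hu'2) (fun e => hu'1 (congrArg Subtype.val e))
    (fun e => hu't (by rw [← hz, ← congrArg Subtype.val e]))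
  have hval : ∀ (a b : ↥(centralizer ({t} : Set G))), a = b ↔ (a : G) = (b : G) := fun a b => Subtype.ext_iff
  simp only [hval, Subgroup.coe_mul, hz] at leU ltU leV
  rw [ncard_coe (fun g => g * g = (u : G)), ncard_coe (fun g => g * g = t ∧ g * (u : G) = (u : G) * g)] at leU ltU
  rw [ncard_coe (fun g => g * g = u'), ncard_coe (fun g => g * g = t ∧ g * u' = u' * g)] at leV
  have cj : ∀ (P R : G → Prop), (∀ g, P g ↔ R (h * g * h⁻¹)) → {g : G | P g}.ncard = {g : G | R g}.ncard := by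
    intro P R hPR
    rw [← Set.ncard_image_of_injective _ (MulAut.conj h).injective]
    congr 1
    ext g
    constructor
    · rintro ⟨a, ha, rfl⟩; exact (hPR a).1 ha
    · intro hg
      refine ⟨h⁻¹ * g * h, (hPR _).2 ?_, ?_⟩
      · simpa [show h * (h⁻¹ * g * h) * h⁻¹ = g by group] using hg
      · show h * (h⁻¹ * g * h) * h⁻¹ = g; group
  have conjEq : ∀ a b : G, h * a * h⁻¹ = h * b * h⁻¹ ↔ a = b := fun a b => by simp
  have cmul : ∀ a b : G, h * (a * b) * h⁻¹ = h * a * h⁻¹ * (h * b * h⁻¹) := fun a b => by group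
  have sz_su : {g : G | g ∈ centralizer ({t} : Set G) ∧ (g * g = t ∧ g * (u : G) = (u : G) * g)}.ncard =
      {g : G | g ∈ centralizer ({t} : Set G) ∧ g * g = u'}.ncard := by
    refine cj _ _ fun g => ?_
    rw [memC, memC, ← cmul, hu', conjEq]
    constructor
    · rintro ⟨-, h2, h3⟩
      exact ⟨by rw [← hh, ← cmul, ← cmul, h3], h2⟩
    · rintro ⟨h1, h2⟩
      rw [← hh, ← cmul, ← cmul, conjEq] at h1
      refine ⟨?_, h2, h1⟩
      rw [← h2, mul_assoc]
  have su_sz : {g : G | g ∈ centralizer ({t} : Set G) ∧ g * g = (u : G)}.ncard =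
      {g : G | g ∈ centralizer ({t} : Set G) ∧ (g * g = t ∧ g * u' = u' * g)}.ncard := by
    refine cj _ _ fun g => ?_
    rw [memC, memC, ← cmul]
    constructor
    · rintro ⟨h1, h2⟩
      refine ⟨?_, by rw [h2, hh], by rw [hu', ← cmul, ← cmul, h1]⟩
      rw [← hh, ← cmul, ← cmul, conjEq, ← h2, mul_assoc]
    · rintro ⟨-, h2, h3⟩
      rw [hu', ← cmul, ← cmul, conjEq] at h3
      rw [← hh, conjEq] at h2
      exact ⟨h3, h2⟩
  by_contra hne'
  push Not at hne'
  have := ltU hne'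
  omega

/-- The index of the centraliser as the size of the class. -/
theorem ncard_conj : {x : G | ∃ g, g * t * g⁻¹ = x}.ncard = (centralizer ({t} : Set G)).index := by
  have key : ∀ a b : G, a⁻¹ * b ∈ centralizer ({t} : Set G) ↔ a * t * a⁻¹ = b * t * b⁻¹ := by
    intro a b
    rw [memC]
    constructor
    · intro e
      calc a * t * a⁻¹ = a * (t * (a⁻¹ * b)) * b⁻¹ := by group
        _ = _ := by rw [← e]; group
    · intro e
      calc a⁻¹ * b * t = a⁻¹ * (b * t * b⁻¹) * b := by group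
        _ = _ := by rw [← e]; group
  let f : G ⧸ centralizer ({t} : Set G) → G := Quotient.lift (fun g => g * t * g⁻¹) fun a b hab =>
    (key a b).1 (QuotientGroup.leftRel_apply.1 hab)
  have hf : Function.Injective f := by
    intro a b
    induction a using QuotientGroup.induction_on with
    | _ a =>
      induction b using QuotientGroup.induction_on with
      | _ b => intro e; exact QuotientGroup.eq.2 ((key a b).2 e)
  have : {x : G | ∃ g, g * t * g⁻¹ = x} = Set.range f := by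
    ext x
    constructor
    · rintro ⟨g, rfl⟩; exact ⟨QuotientGroup.mk g, rfl⟩
    · rintro ⟨q, rfl⟩
      induction q using QuotientGroup.induction_on with
      | _ g => exact ⟨g, rfl⟩
  rw [this, Set.ncard_range_of_injective hf]
  rfl

/-- A set avoiding the centraliser, closed under an element squaring to the involution, has size divisible by four. -/
theorem four_dvd {w : G} (hw : w * w = t) (ht2 : t * t = 1) (ht1 : t ≠ 1) {T : Set G}
    (hT : ∀ x ∈ T, x ∉ centralizer ({t} : Set G)) (hcl : ∀ x ∈ T, w * x * w⁻¹ ∈ T) : 4 ∣ T.ncard := by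
  have hw4 : w ^ 4 = 1 := by rw [show 4 = 2 * 2 from rfl, pow_mul, pow_two, pow_two, hw, ht2]
  have hclp : ∀ (n : ℕ), ∀ x ∈ T, w ^ n * x * (w ^ n)⁻¹ ∈ T := by
    intro n
    induction n with
    | zero => intro x hx; simpa using hx
    | succ n ih =>
      intro x hx
      rw [show w ^ (n + 1) * x * (w ^ (n + 1))⁻¹ = w * (w ^ n * x * (w ^ n)⁻¹) * w⁻¹ by rw [pow_succ']; group]
      exact hcl _ (ih x hx)
  have hmemT : ∀ g ∈ zpowers w, ∀ x ∈ T, g * x * g⁻¹ ∈ T := by
    intro g hg x hx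
    obtain ⟨n, rfl⟩ := (isOfFinOrder_of_finite w).mem_powers_iff_mem_zpowers.2 hg
    exact hclp n x hx
  let act : MulAction ↥(zpowers w) ↥T :=
    { smul := fun g x => ⟨(g : G) * x * (g : G)⁻¹, hmemT g g.2 x x.2⟩
      one_smul := fun x => Subtype.ext (show (1 : G) * x * (1 : G)⁻¹ = x by group)
      mul_smul := fun a b x => Subtype.ext (show ((a : G) * b) * x * ((a : G) * b)⁻¹ =
        (a : G) * ((b : G) * x * (b : G)⁻¹) * (a : G)⁻¹ by group) }
  letI := act
  have hfree : ∀ x : T, MulAction.stabilizer ↥(zpowers w) x = ⊥ := by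
    intro x
    rw [eq_bot_iff]
    intro g hg
    have hg' : (g : G) * x * (g : G)⁻¹ = x := congrArg Subtype.val (MulAction.mem_stabilizer_iff.1 hg)
    obtain ⟨n, hn⟩ := (isOfFinOrder_of_finite w).mem_powers_iff_mem_zpowers.2 g.2
    have hn' : w ^ (n % 4) = (g : G) := by rw [← pow_eq_pow_mod _ hw4]; exact hn
    rw [← hn'] at hg'
    have hnc : w ^ 2 * (x : G) * (w ^ 2)⁻¹ ≠ x := fun e => hT x x.2 (memC.2 (by
      rw [pow_two, hw, mul_inv_eq_iff_eq_mul] at e; exact e.symm))
    have h4 : n % 4 = 0 ∨ n % 4 = 1 ∨ n % 4 = 2 ∨ n % 4 = 3 := by omega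
    rcases h4 with e | e | e | e <;> rw [e] at hg' hn'
    · exact Subgroup.mem_bot.2 (Subtype.ext (by rw [← hn', pow_zero]; rfl))
    · refine absurd ?_ hnc
      rw [pow_one] at hg'
      rw [pow_two, show w * w * (x : G) * (w * w)⁻¹ = w * (w * (x : G) * w⁻¹) * w⁻¹ by group, hg', hg']
    · exact absurd hg' hnc
    · refine absurd ?_ hnc
      have h2 : w ^ 3 * (w ^ 3 * (x : G) * (w ^ 3)⁻¹) * (w ^ 3)⁻¹ = x := by rw [hg', hg']
      rw [show w ^ 3 * (w ^ 3 * (x : G) * (w ^ 3)⁻¹) * (w ^ 3)⁻¹ =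
        (w ^ 3 * w ^ 3) * (x : G) * (w ^ 3 * w ^ 3)⁻¹ by group, ← pow_add,
        show 3 + 3 = 4 + 2 from rfl, pow_add, hw4, one_mul] at h2
      exact h2
  have e := Nat.card_congr (MulAction.selfEquivOrbitsQuotientProd hfree)
  rw [Nat.card_prod, Nat.card_zpowers] at e
  have ho : orderOf w = 4 := orderOf_eq_prime_pow (p := 2) (n := 1)
    (by rw [pow_one, pow_two, hw]; exact ht1) hw4
  rw [← Nat.card_coe_set_eq, e, ho]
  exact Dvd.intro_left _ rfl

/-- The five candidates are impossible. -/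
theorem sys_case_zero [IsSimpleGroup G] (ht2 : t * t = 1) (ht1 : t ≠ 1) (hz : ((S.io 64 : _) : G) = t)
    (hG : Nat.card G = 4030387200) : k = 0 := by
  have hCG : Nat.card ↥(centralizer ({t} : Set G)) = 21504 := S.card
  have hidx : (centralizer ({t} : Set G)).index = 187425 := by
    have h := card_mul_index (centralizer ({t} : Set G))
    rw [hCG, hG] at h
    omega
  have hiso_false : IsIsolated t → False := by
    intro hiso
    have ho : orderOf t = 2 := orderOf_eq_prime (by rw [pow_two, ht2]) ht1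
    refine NormCyc.false_of_inZStar (fun hna => ?_) ho (BrauerSuzuki.zStar G t ho hiso)
    have htop : centralizer ({t} : Set G) = ⊤ :=
      eq_top_iff.2 fun g _ => memC.2 (hna.is_comm.comm g t)
    rw [htop, index_top] at hidx
    omega
  have no_exc : ∀ exc : List ℕ, (∀ e ∈ exc, False) →
      (∀ u : ↥(centralizer ({t} : Set G)), u * u = 1 → u ≠ 1 → u ≠ S.io 64 →
      {g | g * g = u}.ncard ≤ {g | g * g = S.io 64 ∧ g * u = u * g}.ncard ∧
      ((∀ e ∈ exc, u ≠ S.phi e) → {g | g * g = u}.ncard < {g | g * g = S.io 64 ∧ g * u = u * g}.ncard)) →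
      False := by
    intro exc hexc hroot
    refine hiso_false fun g hg => ?_
    by_contra hne
    obtain ⟨e, he, -⟩ := fused_exceptional S ht2 ht1 hz hroot ⟨g * t * g⁻¹, memC.2 hg.eq.symm⟩ hne
      (h := g⁻¹) (by show g⁻¹ * (g * t * g⁻¹) * g⁻¹⁻¹ = t; group)
    exact hexc e he
  have with_exc : ∀ (ex : List (ℕ × ℕ)) (rw0 : ℕ),
      (ex.all fun p => Nat.blt p.1 128 && Nat.blt p.2 21504 &&
        Nat.beq (mulN k p.2 (ex.getD 0 (0, 0)).1) (mulN k p.1 p.2) && !Nat.beq p.1 0 && !Nat.beq p.1 64) = true →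
      (ex.map Prod.fst).Nodup → ex.length = 14 → rw0 < 21504 → sqN k rw0 = 64 →
      (∀ u : ↥(centralizer ({t} : Set G)), u * u = 1 → u ≠ 1 → u ≠ S.io 64 →
      {g | g * g = u}.ncard ≤ {g | g * g = S.io 64 ∧ g * u = u * g}.ncard ∧
      ((∀ e ∈ ex.map Prod.fst, u ≠ S.phi e) →
        {g | g * g = u}.ncard < {g | g * g = S.io 64 ∧ g * u = u * g}.ncard)) → False := by
    intro ex rw0 hex hnd hlen hrw hsq hroot
    simp only [List.all_eq_true, Bool.and_eq_true, Nat.blt_eq, Nat.beq_eq, Bool.not_eq_true'] at hex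
    refine hiso_false fun g hg => ?_
    by_contra hne
    obtain ⟨e₀, he₀, heq⟩ := fused_exceptional S ht2 ht1 hz hroot ⟨g * t * g⁻¹, memC.2 hg.eq.symm⟩ hne
      (h := g⁻¹) (by show g⁻¹ * (g * t * g⁻¹) * g⁻¹⁻¹ = t; group)
    set base := (ex.getD 0 (0, 0)).1 with hbase
    have hbase_lt : base < 128 := by
      have h0 : ex.getD 0 (0, 0) ∈ ex := by
        rw [List.getD_eq_getElem _ _ (by omega)]; exact List.getElem_mem _
      exact (hex _ h0).1.1.1.1
    have hconj : ∀ p ∈ ex, ∃ m : G, m * (S.phi base : G) * m⁻¹ = (S.phi p.1 : G) := by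
      intro p hp
      obtain ⟨⟨⟨⟨h1, h2⟩, h3⟩, -⟩, -⟩ := hex p hp
      have b1 : p.1 < 21504 := by omega
      have b0 : base < 21504 := by omega
      refine ⟨(S.phi p.2 : G), mul_inv_eq_iff_eq_mul.2 ?_⟩
      rw [← Subgroup.coe_mul, ← Subgroup.coe_mul, (S.phi_mul h2 b0).2, (S.phi_mul b1 h2).2, h3]
    obtain ⟨p₀, hp₀, rfl⟩ := List.mem_map.1 he₀
    obtain ⟨m₀, hm₀⟩ := hconj p₀ hp₀
    have hfused : ∀ p ∈ ex, ∃ a : G, a * t * a⁻¹ = (S.phi p.1 : G) := by
      intro p hp
      obtain ⟨m, hm⟩ := hconj p hp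
      refine ⟨m * m₀⁻¹ * g, ?_⟩
      have e := congrArg Subtype.val heq
      simp only at e
      rw [show m * m₀⁻¹ * g * t * (m * m₀⁻¹ * g)⁻¹ = m * (m₀⁻¹ * (g * t * g⁻¹) * m₀) * m⁻¹ by group, e, ← hm₀,
        show m₀⁻¹ * (m₀ * (S.phi base : G) * m₀⁻¹) * m₀ = (S.phi base : G) by group, hm]
    classical
    set M := {x : G | ∃ a, a * t * a⁻¹ = x} with hM
    set A := M ∩ (centralizer ({t} : Set G) : Set G) with hA
    have hA15 : A.ncard = 15 := by
      have hAeq : A = ↑(insert t ((ex.map fun p => (S.phi p.1 : G)).toFinset) : Finset G) := by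
        ext x
        simp only [Finset.coe_insert, Set.mem_insert_iff, Finset.mem_coe, List.mem_toFinset, List.mem_map]
        constructor
        · rintro ⟨⟨a, rfl⟩, hxC⟩
          by_cases hx : a * t * a⁻¹ = t
          · exact Or.inl hx
          obtain ⟨e, he, hxe⟩ := fused_exceptional S ht2 ht1 hz hroot ⟨_, hxC⟩ hx
            (h := a⁻¹) (by show a⁻¹ * (a * t * a⁻¹) * a⁻¹⁻¹ = t; group)
          obtain ⟨p, hp, rfl⟩ := List.mem_map.1 he
          exact Or.inr ⟨p, hp, (congrArg Subtype.val hxe).symm⟩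
        · rintro (rfl | ⟨p, hp, rfl⟩)
          · exact ⟨⟨1, by group⟩, memC.2 rfl⟩
          · exact ⟨hfused p hp, SetLike.coe_mem _⟩
      rw [hAeq, Set.ncard_coe_finset, Finset.card_insert_of_notMem, List.toFinset_card_of_nodup, List.length_map,
        hlen]
      · refine List.Nodup.map_on (fun p hp q hq e => ?_) (List.Nodup.of_map _ hnd)
        have e' : S.phi p.1 = S.phi q.1 := Subtype.ext e
        exact List.inj_on_of_nodup_map hnd hp hq
          (S.phi_inj (by have := (hex p hp).1.1.1.1; omega) (by have := (hex q hq).1.1.1.1; omega) e')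
      · simp only [List.mem_toFinset, List.mem_map, not_exists, not_and]
        intro p hp e
        obtain ⟨⟨⟨⟨h1, -⟩, -⟩, -⟩, h64⟩ := hex p hp
        have e' : S.phi p.1 = S.phi 64 := Subtype.ext (by rw [e, S.phi_low (by norm_num : 64 < 128), hz])
        rw [S.phi_inj (by omega) (by norm_num) e'] at h64
        exact absurd h64 (by decide)
    set w : G := (S.phi rw0 : G) with hw
    have hww : w * w = t := by
      rw [hw, ← Subgroup.coe_mul, (S.phi_mul hrw hrw).2, show mulN k rw0 rw0 = 64 from hsq,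
        S.phi_low (by norm_num : 64 < 128), hz]
    have hwC : w ∈ centralizer ({t} : Set G) := SetLike.coe_mem _
    have h4 : 4 ∣ (M \ A).ncard := by
      refine four_dvd hww ht2 ht1 (fun x hx hxC => hx.2 ⟨hx.1, hxC⟩) ?_
      rintro x ⟨⟨a, rfl⟩, hxA⟩
      refine ⟨⟨w * a, by group⟩, fun h => hxA ⟨⟨a, rfl⟩, ?_⟩⟩
      have := mul_mem (mul_mem (inv_mem hwC) h.2) hwC
      simpa [mul_assoc] using this
    have hsum : (M \ A).ncard + A.ncard = M.ncard := Set.ncard_sdiff_add_ncard_of_subset Set.inter_subset_left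
    rw [hA15, show M.ncard = 187425 from ncard_conj.trans hidx] at hsum
    omega
  have hk := S.lt
  interval_cases k
  · rfl
  all_goals exfalso
  · exact with_exc excT1 rootW1 exc1.1 exc1.2.1 exc1.2.2.1 exc1.2.2.2.1 exc1.2.2.2.2
      fun u h1 h2 h3 => S.roots_lt sqTOK1 scan1 allOK1 h1 h2 h3
  · exact with_exc excT2 rootW2 exc2.1 exc2.2.1 exc2.2.2.1 exc2.2.2.2.1 exc2.2.2.2.2
      fun u h1 h2 h3 => S.roots_lt sqTOK2 scan2 allOK2 h1 h2 h3
  · exact no_exc [] (by simp) fun u h1 h2 h3 => S.roots_lt sqTOK3 scan3 allOK3 h1 h2 h3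
  · exact no_exc [] (by simp) fun u h1 h2 h3 => S.roots_lt sqTOK4 scan4 allOK4 h1 h2 h3
  · exact no_exc [] (by simp) fun u h1 h2 h3 => S.roots_lt sqTOK5 scan5 allOK5 h1 h2 h3

end

end Cfsg.Agent.HeCent
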