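import Cfsg.Agent.Lib.HeUniq.Cent.KillDefs
import Cfsg.Agent.Lib.HeUniq.Cent.KillData1

/-! The criterion on square roots for one case. -/

set_option autoImplicit false
set_option maxRecDepth 100000

namespace Cfsg.Agent.HeCent

open Cfsg.Agent.PermCert (allBelow allBelow_spec)

theorem allOK1 : rootT1.allOK 1 (excT1.map Prod.fst) = true := by decide +kernel

theorem sqTOK1 : sqTOK 1 sqT1 = true := by decide +kernel

theorem scan1_0 : allBelow (fun i => scanNode rootT1 (0 + i) (sqT1.getD (0 + i) (0, 0))) 21 = true := by decide +kernel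
theorem scan1_1 : allBelow (fun i => scanNode rootT1 (21 + i) (sqT1.getD (21 + i) (0, 0))) 21 = true := by decide +kernel
theorem scan1_2 : allBelow (fun i => scanNode rootT1 (42 + i) (sqT1.getD (42 + i) (0, 0))) 21 = true := by decide +kernel
theorem scan1_3 : allBelow (fun i => scanNode rootT1 (63 + i) (sqT1.getD (63 + i) (0, 0))) 21 = true := by decide +kernel
theorem scan1_4 : allBelow (fun i => scanNode rootT1 (84 + i) (sqT1.getD (84 + i) (0, 0))) 21 = true := by decide +kernel
theorem scan1_5 : allBelow (fun i => scanNode rootT1 (105 + i) (sqT1.getD (105 + i) (0, 0))) 21 = true := by decide +kernel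
theorem scan1_6 : allBelow (fun i => scanNode rootT1 (126 + i) (sqT1.getD (126 + i) (0, 0))) 21 = true := by decide +kernel
theorem scan1_7 : allBelow (fun i => scanNode rootT1 (147 + i) (sqT1.getD (147 + i) (0, 0))) 21 = true := by decide +kernel

theorem scan1 : ∀ i < 168, scanNode rootT1 i (sqT1.getD i (0, 0)) = true := by
  intro i hi
  by_cases h0 : i < 21
  · simpa [Nat.add_sub_cancel' (show 0 ≤ i by omega)] using allBelow_spec _ _ scan1_0 (i - 0) (by omega)
  by_cases h1 : i < 42
  · simpa [Nat.add_sub_cancel' (show 21 ≤ i by omega)] using allBelow_spec _ _ scan1_1 (i - 21) (by omega)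
  by_cases h2 : i < 63
  · simpa [Nat.add_sub_cancel' (show 42 ≤ i by omega)] using allBelow_spec _ _ scan1_2 (i - 42) (by omega)
  by_cases h3 : i < 84
  · simpa [Nat.add_sub_cancel' (show 63 ≤ i by omega)] using allBelow_spec _ _ scan1_3 (i - 63) (by omega)
  by_cases h4 : i < 105
  · simpa [Nat.add_sub_cancel' (show 84 ≤ i by omega)] using allBelow_spec _ _ scan1_4 (i - 84) (by omega)
  by_cases h5 : i < 126
  · simpa [Nat.add_sub_cancel' (show 105 ≤ i by omega)] using allBelow_spec _ _ scan1_5 (i - 105) (by omega)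
  by_cases h6 : i < 147
  · simpa [Nat.add_sub_cancel' (show 126 ≤ i by omega)] using allBelow_spec _ _ scan1_6 (i - 126) (by omega)
  by_cases h7 : i < 168
  · simpa [Nat.add_sub_cancel' (show 147 ≤ i by omega)] using allBelow_spec _ _ scan1_7 (i - 147) (by omega)
  omega

/-- The members of the exceptional class are involutions conjugate to the first, and there are fourteen. -/
theorem exc1 : (excT1.all fun t => Nat.blt t.1 128 && Nat.blt t.2 21504 &&
    Nat.beq (mulN 1 t.2 (excT1.getD 0 (0, 0)).1) (mulN 1 t.1 t.2) && !Nat.beq t.1 0 && !Nat.beq t.1 64) = true ∧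
    (excT1.map Prod.fst).Nodup ∧ excT1.length = 14 ∧ rootW1 < 21504 ∧ sqN 1 rootW1 = 64 := by
  decide +kernel


end Cfsg.Agent.HeCent
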