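import Cfsg.Agent.Lib.HeUniq.Cent.Checks
import Mathlib.Tactic
import Mathlib.GroupTheory.OrderOfElement

/-!
Soundness of the coset tables: a group of order 21504 generated in the manner of one of the cases is described
by the table, so two such groups are isomorphic.
-/

set_option autoImplicit false
set_option maxHeartbeats 400000

namespace Cfsg.Agent.HeCent

theorem par3_le (n : ℕ) : par3 n ≤ 1 := Nat.and_le_right

theorem qmul_lt {a b : ℕ} (ha : a < 128) (hb : b < 128) : qmul a b < 128 := by
  have h2 : par3 ((a >>> 3) &&& b &&& 7) <<< 6 < 2 ^ 7 := by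
    rw [Nat.shiftLeft_eq]
    have := par3_le ((a >>> 3) &&& b &&& 7)
    calc par3 ((a >>> 3) &&& b &&& 7) * 2 ^ 6 ≤ 1 * 2 ^ 6 := Nat.mul_le_mul_right _ this
      _ < 2 ^ 7 := by norm_num
  exact Nat.xor_lt_two_pow (n := 7) (Nat.xor_lt_two_pow ha hb) h2

theorem and127_lt (a : ℕ) : a &&& 127 < 128 := lt_of_le_of_lt Nat.and_le_right (by norm_num)

theorem selQ_lt (imgs : List ℕ) (q i : ℕ) : selQ imgs q i < 128 := by
  unfold selQ
  cases q.testBit i
  · exact (by norm_num : 0 < 128)
  · exact and127_lt _

theorem autQ_lt (imgs : List ℕ) (q : ℕ) : autQ imgs q < 128 :=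
  qmul_lt (qmul_lt (qmul_lt (qmul_lt (qmul_lt (qmul_lt (selQ_lt _ _ _) (selQ_lt _ _ _)) (selQ_lt _ _ _))
    (selQ_lt _ _ _)) (selQ_lt _ _ _)) (selQ_lt _ _ _)) (lt_of_le_of_lt Nat.and_le_right (by norm_num))

theorem tab_lt (k : ℕ) (l : Bool) (q : ℕ) : tab k l q < 128 := by
  cases l <;> exact autQ_lt _ _

theorem act_lt (k : ℕ) : ∀ (w : List Bool) {q : ℕ}, q < 128 → act k w q < 128
  | [], _, hq => hq
  | _ :: _, _, _ => tab_lt _ _ _

theorem cee_lt (k i : ℕ) (l : Bool) : cee k i l < 128 := and127_lt _

/-- A group generated in the manner of a case. -/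
structure Sys (C : Type*) [Group C] (k : ℕ) where
  /-- The elements of the extraspecial subgroup. -/
  io : ℕ → C
  /-- The element of order seven. -/
  s : C
  /-- The involution modulo the extraspecial subgroup. -/
  x : C
  lt : k < 6
  mul : ∀ a < 128, ∀ b < 128, io a * io b = io (qmul a b)
  inj : ∀ a < 128, ∀ b < 128, io a = io b → a = b
  cs : ∀ a < 128, s * io a * s⁻¹ = io (tab k true a)
  cx : ∀ a < 128, x * io a * x⁻¹ = io (tab k false a)
  hxx : x * x = io (epsOf k)
  hs7 : s * s * s * s * s * s * s = 1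
  hxs : x * s * x * s * x * s = 1
  hfour : x * s * s * s * s * (x * s * s * s * s) * (x * s * s * s * s) * (x * s * s * s * s) =
    io (qFour (typeOf k) ^^^ epsOf k)
  card : Nat.card C = 21504

namespace Sys

variable {C : Type*} [Group C] {k : ℕ} (S : Sys C k)

theorem io_zero : S.io 0 = 1 := by
  have h := S.mul 0 (by norm_num) 0 (by norm_num)
  rwa [show qmul 0 0 = 0 from rfl, mul_eq_left] at h

/-- The generator of a letter. -/
def gen (l : Bool) : C := bif l then S.s else S.x

theorem conj (l : Bool) {a : ℕ} (ha : a < 128) : S.gen l * S.io a = S.io (tab k l a) * S.gen l := by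
  cases l
  · rw [← mul_inv_eq_iff_eq_mul]; exact S.cx a ha
  · rw [← mul_inv_eq_iff_eq_mul]; exact S.cs a ha

/-- The value of a word. -/
def ev (w : List Bool) : C := (w.map S.gen).prod

theorem ev_nil : S.ev [] = 1 := rfl

theorem ev_cons (l : Bool) (w : List Bool) : S.ev (l :: w) = S.gen l * S.ev w := by
  simp [ev]

theorem ev_append (u v : List Bool) : S.ev (u ++ v) = S.ev u * S.ev v := by
  simp [ev]

theorem ev_conj : ∀ (w : List Bool) {a : ℕ}, a < 128 → S.ev w * S.io a = S.io (act k w a) * S.ev w
  | [], a, _ => by simp [ev, act]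
  | l :: w, a, ha => by
    rw [ev_cons, mul_assoc, ev_conj w ha, ← mul_assoc, S.conj l (act_lt k w ha), mul_assoc]
    rfl

/-- The transversal. -/
def sg (i : ℕ) : C := S.ev (wordN i)

/-- A bit is on only for valid edges. -/
def Valid (known : ℕ) : Prop :=
  ∀ i l, known.testBit (edge i l) = true → S.sg i * S.gen l = S.io (cee k i l) * S.sg (stp i l)

theorem walk_sound {known : ℕ} (hv : S.Valid known) : ∀ (w : List Bool) (i a p : ℕ),
    walk k known w i = some (a, p) → a < 128 ∧ S.sg i * S.ev w = S.io a * S.sg p := by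
  intro w
  induction w with
  | nil =>
    intro i a p h
    simp only [walk, Option.some.injEq, Prod.mk.injEq] at h
    obtain ⟨rfl, rfl⟩ := h
    exact ⟨by norm_num, by simp [io_zero, ev]⟩
  | cons l w ih =>
    intro i a p h
    rw [walk] at h
    cases hb : known.testBit (edge i l) with
    | false => rw [hb] at h; simp at h
    | true =>
      rw [hb, cond_true] at h
      cases hw : walk k known w (stp i l) with
      | none => rw [hw] at h; simp at h
      | some r =>
        obtain ⟨a', p'⟩ := r
        rw [hw] at h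
        simp only [Option.some.injEq, Prod.mk.injEq] at h
        obtain ⟨rfl, rfl⟩ := h
        obtain ⟨ha', he⟩ := ih _ _ _ hw
        refine ⟨qmul_lt (cee_lt _ _ _) ha', ?_⟩
        rw [ev_cons, ← mul_assoc, hv i l hb, mul_assoc, he, ← mul_assoc, S.mul _ (cee_lt _ _ _) _ ha']

theorem rel_sound {r t : ℕ} {w : List Bool} (h : (rels k)[r]? = some (w, t)) : S.ev w = S.io t := by
  rcases r with _ | _ | _ | _ | r <;> simp only [rels, List.getElem?_cons_zero, List.getElem?_cons_succ,
    List.getElem?_nil, Option.some.injEq, Prod.mk.injEq, reduceCtorEq] at h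
  · obtain ⟨rfl, rfl⟩ := h
    simpa [ev, gen] using S.hxx
  · obtain ⟨rfl, rfl⟩ := h
    simpa [ev, gen, io_zero, mul_assoc] using S.hs7
  · obtain ⟨rfl, rfl⟩ := h
    simpa [ev, gen, io_zero, mul_assoc] using S.hxs
  · obtain ⟨rfl, rfl⟩ := h
    simpa [ev, gen, mul_assoc] using S.hfour

theorem edge_inj {i j : ℕ} {l m : Bool} (h : edge i l = edge j m) : i = j ∧ l = m := by
  cases l <;> cases m <;> simp [edge] at h ⊢ <;> omega

theorem valid_or {known p : ℕ} {l : Bool} (hv : S.Valid known)
    (he : S.sg p * S.gen l = S.io (cee k p l) * S.sg (stp p l)) :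
    S.Valid (known ||| (1 <<< edge p l)) := by
  intro i m h
  rw [Nat.testBit_or, Bool.or_eq_true, Nat.shiftLeft_eq, one_mul, Nat.testBit_two_pow, decide_eq_true_eq] at h
  rcases h with h | h
  · exact hv i m h
  · obtain ⟨rfl, rfl⟩ := edge_inj h
    exact he

theorem ded_sound {known known' i r pos : ℕ} (hv : S.Valid known) (h : dedOK k known i r pos = some known') :
    S.Valid known' := by
  unfold dedOK at h
  cases hr : (rels k)[r]? with
  | none => rw [hr] at h; simp at h
  | some wt =>
    obtain ⟨w, t⟩ := wt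
    rw [hr] at h
    simp only at h
    cases hd : w.drop pos with
    | nil => rw [hd] at h; simp at h
    | cons l suf =>
      rw [hd] at h
      simp only at h
      cases h1 : walk k known (w.take pos) i with
      | none => rw [h1] at h; simp at h
      | some ap =>
        obtain ⟨a, p⟩ := ap
        rw [h1] at h
        simp only at h
        cases h2 : walk k known suf (stp p l) with
        | none => rw [h2] at h; simp at h
        | some bj =>
          obtain ⟨b, j⟩ := bj
          rw [h2] at h
          simp only at h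
          cases hc : (Nat.beq j i && Nat.blt t 128 && Nat.beq (qmul a (qmul (cee k p l) b))
              (act k (wordN i) t)) with
          | false => rw [hc] at h; simp at h
          | true =>
            rw [hc, cond_true, Option.some.injEq] at h
            subst h
            simp only [Bool.and_eq_true, Nat.beq_eq, Nat.blt_eq] at hc
            obtain ⟨⟨rfl, ht⟩, hT⟩ := hc
            obtain ⟨ha, e1⟩ := S.walk_sound hv _ _ _ _ h1
            obtain ⟨hb, e2⟩ := S.walk_sound hv _ _ _ _ h2
            refine S.valid_or hv ?_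
            have e3 : S.sg j * S.ev w = S.io (qmul a (qmul (cee k p l) b)) * S.sg j := by
              rw [S.rel_sound hr, hT]; exact S.ev_conj (wordN j) ht
            rw [← List.take_append_drop pos w, hd, ev_append, ev_cons, ← mul_assoc, e1, mul_assoc (S.io a),
              ← S.mul _ ha _ (qmul_lt (cee_lt _ _ _) hb), ← S.mul _ (cee_lt _ _ _) _ hb, mul_assoc (S.io a),
              mul_right_inj, mul_assoc (S.io (cee k p l)), ← e2, ← mul_assoc, ← mul_assoc,
              mul_left_inj] at e3
            exact e3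

theorem run_sound : ∀ (ds : List (ℕ × ℕ × ℕ)) (known full : ℕ), S.Valid known →
    runDeds k ds known = some full → S.Valid full
  | [], known, full, hv, h => by
    rw [runDeds, Option.some.injEq] at h; exact h ▸ hv
  | (i, r, pos) :: rest, known, full, hv, h => by
    rw [runDeds] at h
    cases hd : dedOK k known i r pos with
    | none => rw [hd] at h; simp at h
    | some known' => rw [hd] at h; exact run_sound rest _ _ (S.ded_sound hv hd) h

theorem tree_sound : ∀ (ps : List (ℕ × Bool)) (i known full : ℕ), S.Valid known →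
    treeOK k ps i known = some full → S.Valid full
  | [], _, known, full, hv, h => by
    rw [treeOK, Option.some.injEq] at h; exact h ▸ hv
  | (p, l) :: rest, i, known, full, hv, h => by
    rw [treeOK] at h
    cases hc : (Nat.beq (stp p l) i && Nat.beq (cee k p l) 0 && (wordN i == wordN p ++ [l])) with
    | false => rw [hc] at h; simp at h
    | true =>
      rw [hc, cond_true] at h
      simp only [Bool.and_eq_true, Nat.beq_eq, beq_iff_eq] at hc
      refine tree_sound rest _ _ _ (S.valid_or hv ?_) h
      rw [hc.1.2, io_zero, one_mul, hc.1.1, sg, sg, hc.2, ev_append, ev_cons, ev_nil, mul_one]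

theorem edge_lt {i : ℕ} (l : Bool) (hi : i < 168) : edge i l < 336 := by
  cases l <;> simp [edge] <;> omega

theorem table_facts : S.sg 0 = 1 ∧ ∀ i < 168, ∀ l,
    stp i l < 168 ∧ S.sg i * S.gen l = S.io (cee k i l) * S.sg (stp i l) := by
  have h := table_ok S.lt
  rw [tableOK, Bool.and_eq_true, beq_iff_eq] at h
  obtain ⟨h0, h⟩ := h
  cases ht : treeOK k parents 1 0 with
  | none => rw [ht] at h; simp at h
  | some known =>
    rw [ht] at h
    simp only at h
    cases hd : runDeds k deds known with
    | none => rw [hd] at h; simp at h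
    | some full =>
      rw [hd] at h
      simp only [Bool.and_eq_true, Nat.beq_eq, List.all_eq_true, List.mem_range, Nat.blt_eq] at h
      have hv : S.Valid full := S.run_sound _ _ _ (S.tree_sound _ _ _ _ (fun i l hb => by simp at hb) ht) hd
      refine ⟨by rw [sg, h0, ev_nil], fun i hi l => ⟨h.2 _ (edge_lt l hi), hv i l ?_⟩⟩
      rw [h.1, Nat.testBit_two_pow_sub_one, decide_eq_true_eq]
      exact edge_lt l hi

/-- The element of a normal form. -/
def phi (n : ℕ) : C := S.io (n % 128) * S.sg (n / 128)

theorem phi_code {q i : ℕ} (hq : q < 128) : S.phi (q + 128 * i) = S.io q * S.sg i := by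
  rw [phi, Nat.add_mul_mod_self_left, Nat.mod_eq_of_lt hq, Nat.add_mul_div_left _ _ (by norm_num),
    Nat.div_eq_of_lt hq, zero_add]

theorem phi_step {n : ℕ} (hn : n < 21504) (l : Bool) :
    stepN k n l < 21504 ∧ S.phi n * S.gen l = S.phi (stepN k n l) := by
  have hq : n % 128 < 128 := Nat.mod_lt _ (by norm_num)
  have hi : n / 128 < 168 := by omega
  obtain ⟨hs, he⟩ := S.table_facts.2 _ hi l
  have hlt := qmul_lt hq (cee_lt k (n / 128) l)
  refine ⟨by unfold stepN; omega, ?_⟩
  rw [stepN, S.phi_code hlt, phi, mul_assoc, he, ← mul_assoc, S.mul _ hq _ (cee_lt _ _ _)]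

theorem phi_fold : ∀ (w : List Bool) {n : ℕ}, n < 21504 →
    w.foldl (stepN k) n < 21504 ∧ S.phi n * S.ev w = S.phi (w.foldl (stepN k) n)
  | [], n, hn => ⟨hn, by simp [ev]⟩
  | l :: w, n, hn => by
    obtain ⟨h1, h2⟩ := S.phi_step hn l
    obtain ⟨h3, h4⟩ := phi_fold w h1
    refine ⟨h3, ?_⟩
    rw [ev_cons, ← mul_assoc, h2, h4, List.foldl_cons]

theorem phi_mul {n m : ℕ} (hn : n < 21504) (_hm : m < 21504) :
    mulN k n m < 21504 ∧ S.phi n * S.phi m = S.phi (mulN k n m) := by
  have hq : n % 128 < 128 := Nat.mod_lt _ (by norm_num)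
  have hq' : m % 128 < 128 := Nat.mod_lt _ (by norm_num)
  have hlt := qmul_lt hq (act_lt k (wordN (n / 128)) hq')
  obtain ⟨h1, h2⟩ := S.phi_fold (wordN (m / 128))
    (show qmul (n % 128) (act k (wordN (n / 128)) (m % 128)) + 128 * (n / 128) < 21504 by omega)
  refine ⟨h1, ?_⟩
  show S.phi n * S.phi m = S.phi ((wordN (m / 128)).foldl (stepN k) _)
  rw [← h2, S.phi_code hlt, phi, phi]
  rw [← S.mul _ hq _ (act_lt k _ hq')]
  simp only [mul_assoc]
  rw [← mul_assoc (S.sg (n / 128)), sg, S.ev_conj _ hq', mul_assoc]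
  rfl

theorem phi_inj {n m : ℕ} (hn : n < 21504) (hm : m < 21504) (h : S.phi n = S.phi m) : n = m := by
  have hq : n % 128 < 128 := Nat.mod_lt _ (by norm_num)
  have hq' : m % 128 < 128 := Nat.mod_lt _ (by norm_num)
  have hi : n / 128 = m / 128 := by
    have hd := distinct_ok S.lt
    simp only [distinctOK, List.all_eq_true, List.mem_range, Bool.or_eq_true, Nat.beq_eq,
      Bool.not_eq_true', beq_eq_false_iff_ne] at hd
    refine (hd (n / 128) (by omega) (m / 128) (by omega)).resolve_right (fun hne => hne ?_)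
    unfold actKey
    refine List.map_congr_left fun g hg => ?_
    have hg' : g < 128 := by fin_cases hg <;> norm_num
    have key : ∀ {q i : ℕ}, q < 128 →
        S.io q * S.sg i * S.io g * (S.io q * S.sg i)⁻¹ = S.io (act k (wordN i) g) ∨
        S.io q * S.sg i * S.io g * (S.io q * S.sg i)⁻¹ = S.io (act k (wordN i) g ^^^ 64) := by
      intro q i hq
      have ha : act k (wordN i) g < 128 := act_lt _ _ hg'
      have e : S.io q * S.sg i * S.io g * (S.io q * S.sg i)⁻¹ =
          S.io q * S.io (act k (wordN i) g) * (S.io q)⁻¹ := by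
        rw [mul_assoc (S.io q), sg, S.ev_conj _ hg']; group
      have hc : ∀ a < 128, ∀ b < 128, qmul a b = qmul b a ∨ qmul a b = qmul (b ^^^ 64) a := by
        decide +kernel
      rcases hc q hq _ ha with hh | hh
      · left; rw [e, mul_inv_eq_iff_eq_mul, S.mul _ hq _ ha, S.mul _ ha _ hq, hh]
      · right
        have h64 : act k (wordN i) g ^^^ 64 < 128 := Nat.xor_lt_two_pow (n := 7) ha (by norm_num)
        rw [e, mul_inv_eq_iff_eq_mul, S.mul _ hq _ ha, S.mul _ h64 _ hq, hh]
    have h1 := key (i := n / 128) hq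
    have h2 := key (i := m / 128) hq'
    unfold phi at h
    rw [h] at h1
    have ha : act k (wordN (n / 128)) g < 128 := act_lt _ _ hg'
    have hb : act k (wordN (m / 128)) g < 128 := act_lt _ _ hg'
    have hx : ∀ a < 128, ∀ b < 128, (a = b ∨ a ^^^ 64 = b ∨ a = b ^^^ 64 ∨ a ^^^ 64 = b ^^^ 64) →
        a &&& 63 = b &&& 63 := by decide +kernel
    refine hx _ ha _ hb ?_
    rcases h1 with h1 | h1 <;> rcases h2 with h2 | h2 <;> rw [h1] at h2
    · exact Or.inl (S.inj _ ha _ hb h2)
    · exact Or.inr (Or.inr (Or.inl (S.inj _ ha _ (Nat.xor_lt_two_pow (n := 7) hb (by norm_num)) h2)))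
    · exact Or.inr (Or.inl (S.inj _ (Nat.xor_lt_two_pow (n := 7) ha (by norm_num)) _ hb h2))
    · exact Or.inr (Or.inr (Or.inr (S.inj _ (Nat.xor_lt_two_pow (n := 7) ha (by norm_num)) _
        (Nat.xor_lt_two_pow (n := 7) hb (by norm_num)) h2)))
  have := S.inj _ hq _ hq' (by rw [phi, phi, hi, mul_left_inj] at h; exact h)
  omega

theorem phi_bij : Function.Bijective fun n : Fin 21504 => S.phi n := by
  have : Finite C := Nat.finite_of_card_ne_zero (by rw [S.card]; norm_num)
  exact Nat.bijective_iff_injective_and_card _ |>.2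
    ⟨fun a b h => Fin.ext (S.phi_inj a.2 b.2 h), by rw [Nat.card_fin, S.card]⟩

/-- Two groups of the same case are isomorphic, normal form to normal form. -/
theorem iso {D : Type*} [Group D] (T : Sys D k) :
    ∃ e : C ≃* D, ∀ n < 21504, e (S.phi n) = T.phi n := by
  set eS := Equiv.ofBijective _ S.phi_bij
  set eT := Equiv.ofBijective _ T.phi_bij
  have hS : ∀ n : Fin 21504, eS n = S.phi n := fun n => rfl
  have hT : ∀ n : Fin 21504, eT n = T.phi n := fun n => rfl
  refine ⟨{ eS.symm.trans eT with
    map_mul' := fun a b => ?_ }, fun n hn => ?_⟩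
  · obtain ⟨i, rfl⟩ := eS.surjective a
    obtain ⟨j, rfl⟩ := eS.surjective b
    obtain ⟨hlt, he⟩ := S.phi_mul i.2 j.2
    obtain ⟨-, he'⟩ := T.phi_mul i.2 j.2
    show eT (eS.symm (eS i * eS j)) = eT (eS.symm (eS i)) * eT (eS.symm (eS j))
    rw [show eS i * eS j = eS ⟨_, hlt⟩ from he, eS.symm_apply_apply, eS.symm_apply_apply, eS.symm_apply_apply,
      hT, hT, hT, he']
  · show eT (eS.symm (S.phi n)) = T.phi n
    rw [show S.phi n = eS ⟨n, hn⟩ from rfl, eS.symm_apply_apply]
    rfl

end Sys

end Cfsg.Agent.HeCent
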