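import Cfsg.Agent.Lib.HeUniq.Cent.RootTree
import Cfsg.Agent.Lib.HeUniq.Cent.Table
import Cfsg.Agent.Lib.Compute.PermCert
import Mathlib.Data.Set.Card

/-!
A criterion on the table under which every involution has fewer square roots than the central involution has
in its centraliser.
-/

set_option autoImplicit false

namespace Cfsg.Agent.HeCent

/-- The square. -/
def sqN (k n : ℕ) : ℕ := mulN k n n

/-- The images of the six generators, unpacked. -/
def unpackQ (v : ℕ) : List ℕ :=
  [v &&& 127, (v >>> 8) &&& 127, (v >>> 16) &&& 127, (v >>> 24) &&& 127, (v >>> 32) &&& 127, (v >>> 40) &&& 127]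

/-- The table of squares of representatives is correct. -/
def sqTOK (k : ℕ) (t : List (ℕ × ℕ)) : Bool :=
  (List.range 168).all fun i =>
    (unpackQ (t.getD i (0, 0)).1 == [1, 2, 4, 8, 16, 32].map (act k (wordN i))) &&
      Nat.beq (t.getD i (0, 0)).2 ((wordN i).foldl (stepN k) (128 * i))

/-- The square of an element of a node, by the table. -/
def sqFast (e : ℕ × ℕ) (q : ℕ) : ℕ :=
  qmul (qmul q (autQ (unpackQ e.1) q)) (e.2 % 128) + 128 * (e.2 / 128)

/-- The scan of one element with its square. -/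
def scanOne (tr : RT) (n m : ℕ) : Bool :=
  ((!Nat.beq m 0) || Nat.beq n 0 || Nat.beq n 64 || (tr.find n).isSome) &&
  match tr.find m with
  | some (r, _) => r.any fun e => Nat.beq e n
  | none => true

/-- The scan of one node. -/
def scanNode (tr : RT) (i : ℕ) (e : ℕ × ℕ) : Bool :=
  Cfsg.Agent.PermCert.allBelow (fun q => scanOne tr (q + 128 * i) (sqFast e q)) 128

/-- Strictly increasing below a bound. -/
def incOK : ℕ → List ℕ → Bool
  | _, [] => true
  | lo, m :: l => Nat.ble lo m && Nat.blt m 21504 && incOK (m + 1) l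

/-- The witnesses of one entry. -/
def witOK (k : ℕ) (exc : List ℕ) (n : ℕ) (r w : List ℕ) : Bool :=
  Nat.ble (r.length + (bif exc.any (fun e => Nat.beq e n) then 0 else 1)) w.length && incOK 0 w &&
    w.all fun m => Nat.beq (sqN k m) 64 && Nat.beq (mulN k m n) (mulN k n m)

/-- All entries. -/
def RT.allOK (k : ℕ) (exc : List ℕ) : RT → Bool
  | .leaf => true
  | .node n r w a b => witOK k exc n r w && a.allOK k exc && b.allOK k exc

theorem RT.find_ok {k n : ℕ} {exc r w : List ℕ} :
    ∀ tr : RT, tr.allOK k exc = true → tr.find n = some (r, w) → witOK k exc n r w = true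
  | .leaf, _, h => by simp [RT.find] at h
  | .node m r' w' a b, hall, h => by
    simp only [RT.allOK, Bool.and_eq_true] at hall
    rw [RT.find] at h
    cases h1 : Nat.blt n m with
    | true => rw [h1, cond_true] at h; exact RT.find_ok a hall.1.2 h
    | false =>
      rw [h1, cond_false] at h
      cases h2 : Nat.beq n m with
      | true =>
        rw [h2, cond_true, Option.some.injEq, Prod.mk.injEq] at h
        rw [Nat.eq_of_beq_eq_true h2, ← h.1, ← h.2]
        exact hall.1.1
      | false => rw [h2, cond_false] at h; exact RT.find_ok b hall.2 h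

theorem incOK_spec : ∀ {lo : ℕ} {w : List ℕ}, incOK lo w = true →
    (∀ m ∈ w, lo ≤ m ∧ m < 21504) ∧ w.Nodup
  | _, [], _ => ⟨by simp, List.nodup_nil⟩
  | lo, m :: l, h => by
    simp only [incOK, Bool.and_eq_true, Nat.ble_eq, Nat.blt_eq] at h
    obtain ⟨h1, h2⟩ := incOK_spec h.2
    refine ⟨fun a ha => ?_, List.nodup_cons.2 ⟨fun hm => ?_, h2⟩⟩
    · rcases List.mem_cons.1 ha with rfl | ha
      · exact h.1
      · have := h1 a ha; omega
    · have := h1 m hm; omega

namespace Sys

variable {C : Type*} [Group C] {k : ℕ} (S : Sys C k)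

theorem phi_zero : S.phi 0 = 1 := by
  rw [phi, Nat.zero_mod, Nat.zero_div, io_zero, S.table_facts.1, one_mul]

theorem phi_low {q : ℕ} (hq : q < 128) : S.phi q = S.io q := by
  rw [phi, Nat.mod_eq_of_lt hq, Nat.div_eq_of_lt hq, S.table_facts.1, mul_one]

theorem phi_surj (g : C) : ∃ n < 21504, S.phi n = g := by
  obtain ⟨⟨n, hn⟩, h⟩ := S.phi_bij.2 g
  exact ⟨n, hn, h⟩

include S in
/-- The value of a map given on the generators. -/
theorem io_autQ (w : List Bool) {q : ℕ} (hq : q < 128) :
    act k w q = autQ ([1, 2, 4, 8, 16, 32].map (act k w)) q := by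
  have hA : ∀ {a}, a < 128 → S.io (act k w a) = S.ev w * S.io a * (S.ev w)⁻¹ := fun ha =>
    eq_mul_inv_iff_mul_eq.2 (S.ev_conj w ha).symm
  have hs : ∀ i < 6, S.io (selQ ([1, 2, 4, 8, 16, 32].map (act k w)) q i) =
      S.ev w * S.io (selQ [1, 2, 4, 8, 16, 32] q i) * (S.ev w)⁻¹ := by
    intro i hi
    unfold selQ
    cases q.testBit i
    · simp [io_zero]
    · simp only [cond_true]
      interval_cases i <;> simp only [List.map_cons, List.map_nil, List.getD_cons_zero, List.getD_cons_succ] <;>
        rw [show ∀ {a}, a < 128 → a &&& 127 = a from fun {a} ha => by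
          have : ∀ a < 128, a &&& 127 = a := by decide +kernel
          exact this a ha] <;> first | exact hA (by norm_num) | exact act_lt _ _ (by norm_num)
  have hz : S.io (q &&& 64) = S.ev w * S.io (q &&& 64) * (S.ev w)⁻¹ := by
    have h64 : q &&& 64 = 0 ∨ q &&& 64 = 64 := by
      have : ∀ a < 128, a &&& 64 = 0 ∨ a &&& 64 = 64 := by decide +kernel
      exact this q hq
    have hfix : ∀ (u : List Bool), act k u 64 = 64 := by
      intro u
      induction u with
      | nil => rfl
      | cons l u ih =>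
        show tab k l (act k u 64) = 64
        rw [ih]
        cases l <;>
          simp [tab, autQ, selQ, Nat.testBit, qmul, par3, Nat.shiftRight_eq_div_pow]
    rcases h64 with e | e <;> rw [e]
    · simp [io_zero]
    · rw [← hA (by norm_num), hfix]
  refine S.inj _ (act_lt _ _ hq) _ (autQ_lt _ _) ?_
  have hid : ∀ a < 128, autQ [1, 2, 4, 8, 16, 32] a = a := by decide +kernel
  conv_lhs => rw [← hid q hq, hA (autQ_lt _ _)]
  unfold autQ
  have h64 : q &&& 64 < 128 := lt_of_le_of_lt Nat.and_le_right (by norm_num)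
  have b := fun (l : List ℕ) (i : ℕ) => selQ_lt l q i
  simp (config := { maxDischargeDepth := 10 }) only [← S.mul _ (qmul_lt (qmul_lt (qmul_lt (qmul_lt (qmul_lt (b _ _) (b _ _)) (b _ _)) (b _ _)) (b _ _)) (b _ _)) _ h64,
    ← S.mul _ (qmul_lt (qmul_lt (qmul_lt (qmul_lt (b _ _) (b _ _)) (b _ _)) (b _ _)) (b _ _)) _ (b _ _),
    ← S.mul _ (qmul_lt (qmul_lt (qmul_lt (b _ _) (b _ _)) (b _ _)) (b _ _)) _ (b _ _),
    ← S.mul _ (qmul_lt (qmul_lt (b _ _) (b _ _)) (b _ _)) _ (b _ _),
    ← S.mul _ (qmul_lt (b _ _) (b _ _)) _ (b _ _), ← S.mul _ (b _ _) _ (b _ _)]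
  rw [hs 0 (by norm_num), hs 1 (by norm_num), hs 2 (by norm_num), hs 3 (by norm_num), hs 4 (by norm_num),
    hs 5 (by norm_num)]
  nth_rewrite 2 [hz]
  group

include S in
theorem sqFast_eq {t : List (ℕ × ℕ)} (hsq : sqTOK k t = true) {n : ℕ} (hn : n < 21504) :
    sqFast (t.getD (n / 128) (0, 0)) (n % 128) = sqN k n := by
  simp only [sqTOK, List.all_eq_true, List.mem_range, Bool.and_eq_true, beq_iff_eq, Nat.beq_eq] at hsq
  obtain ⟨h1, h2⟩ := hsq (n / 128) (by omega)
  have hq : n % 128 < 128 := Nat.mod_lt _ (by norm_num)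
  have hi : n / 128 < 168 := by omega
  have ha := act_lt k (wordN (n / 128)) hq
  obtain ⟨b0, e0⟩ := S.phi_fold (wordN (n / 128)) (show 128 * (n / 128) < 21504 by omega)
  obtain ⟨b1, e1⟩ := S.phi_mul hn hn
  set K := (wordN (n / 128)).foldl (stepN k) (128 * (n / 128)) with hK
  have hKq : K % 128 < 128 := Nat.mod_lt _ (by norm_num)
  have hlt := qmul_lt (qmul_lt hq ha) hKq
  unfold sqFast
  rw [h1, h2, ← S.io_autQ _ hq]
  refine S.phi_inj (by omega) b1 ?_
  show _ = S.phi (mulN k n n)
  rw [← e1, S.phi_code hlt, ← S.mul _ (qmul_lt hq ha) _ hKq, ← S.mul _ hq _ ha]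
  have e : S.io (K % 128) * S.sg (K / 128) = S.sg (n / 128) * S.ev (wordN (n / 128)) := by
    rw [show S.io (K % 128) * S.sg (K / 128) = S.phi K from rfl, ← e0, phi,
      Nat.mul_mod_right, Nat.mul_div_cancel_left _ (by norm_num : 0 < 128), io_zero, one_mul]
  rw [mul_assoc _ _ (S.sg (K / 128)), e, phi]
  simp only [mul_assoc]
  congr 1
  rw [← mul_assoc (S.sg (n / 128)) (S.io (n % 128)), sg, S.ev_conj _ hq, mul_assoc]

/-- Not more roots than commuting roots of the central involution, with equality only for exceptions. -/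
theorem roots_lt {tr : RT} {exc : List ℕ} {t : List (ℕ × ℕ)} (hsq : sqTOK k t = true)
    (hscan' : ∀ i < 168, scanNode tr i (t.getD i (0, 0)) = true)
    (hall : tr.allOK k exc = true) {u : C} (hu : u * u = 1) (h1 : u ≠ 1) (h64 : u ≠ S.io 64) :
    {g : C | g * g = u}.ncard ≤ {g : C | g * g = S.io 64 ∧ g * u = u * g}.ncard ∧
    ((∀ e ∈ exc, u ≠ S.phi e) →
      {g : C | g * g = u}.ncard < {g : C | g * g = S.io 64 ∧ g * u = u * g}.ncard) := by
  classical
  have hscan : ∀ n < 21504, scanOne tr n (sqN k n) = true := by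
    intro n hn
    have h := Cfsg.Agent.PermCert.allBelow_spec _ _ (hscan' (n / 128) (by omega)) (n % 128) (Nat.mod_lt _ (by norm_num))
    rw [show n % 128 + 128 * (n / 128) = n by omega, S.sqFast_eq hsq hn] at h
    exact h
  have : Finite C := Nat.finite_of_card_ne_zero (by rw [S.card]; norm_num)
  obtain ⟨n, hn, rfl⟩ := S.phi_surj u
  have hsome : (tr.find n).isSome = true := by
    have h := hscan n hn
    simp only [scanOne, Bool.and_eq_true, Bool.or_eq_true, Bool.not_eq_true', List.any_eq_true,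
      Nat.beq_eq] at h
    rcases h.1 with ((h' | h') | h') | h'
    · exfalso
      have e0 : sqN k n = 0 := S.phi_inj (S.phi_mul hn hn).1 (by norm_num)
        (by rw [phi_zero, ← hu]; exact (S.phi_mul hn hn).2.symm)
      rw [e0] at h'
      exact absurd h' (by decide)
    · exact absurd (h' ▸ S.phi_zero) h1
    · exact absurd (by rw [h']; exact S.phi_low (by norm_num)) h64
    · exact h'
  obtain ⟨⟨r, w⟩, hf⟩ := Option.isSome_iff_exists.1 hsome
  have hw := RT.find_ok tr hall hf
  simp only [witOK, Bool.and_eq_true, Nat.ble_eq, List.all_eq_true, Nat.beq_eq] at hw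
  obtain ⟨⟨hlen, hinc⟩, hwit⟩ := hw
  obtain ⟨hwb, hnd⟩ := incOK_spec hinc
  have hroots : {g : C | g * g = S.phi n} ⊆ ↑((r.map S.phi).toFinset) := by
    intro g hg
    obtain ⟨m, hm, rfl⟩ := S.phi_surj g
    have e : sqN k m = n := S.phi_inj (S.phi_mul hm hm).1 hn (by
      unfold sqN; rw [← (S.phi_mul hm hm).2]; exact hg)
    have h := hscan m hm
    simp only [scanOne, e, hf, Bool.and_eq_true, List.any_eq_true, Nat.beq_eq] at h
    obtain ⟨a, ha, hae⟩ := h.2
    exact List.mem_toFinset.2 (List.mem_map.2 ⟨a, ha, by rw [hae]⟩)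
  have hwits : (↑((w.map S.phi).toFinset) : Set C) ⊆ {g : C | g * g = S.io 64 ∧ g * S.phi n = S.phi n * g} := by
    intro g hg
    obtain ⟨m, hm, rfl⟩ := List.mem_map.1 (List.mem_toFinset.1 hg)
    have hb := (hwb m hm).2
    obtain ⟨h1', h2'⟩ := hwit m hm
    refine ⟨?_, ?_⟩
    · rw [(S.phi_mul hb hb).2, ← S.phi_low (by norm_num : 64 < 128)]
      exact congrArg S.phi h1'
    · rw [(S.phi_mul hb hn).2, (S.phi_mul hn hb).2, h2']
  have hwcard : (w.map S.phi).toFinset.card = w.length := by
    rw [List.toFinset_card_of_nodup, List.length_map]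
    exact List.Nodup.map_on (fun a ha b hb he => S.phi_inj (hwb a ha).2 (hwb b hb).2 he) hnd
  have h1' : {g : C | g * g = S.phi n}.ncard ≤ r.length := by
    calc {g : C | g * g = S.phi n}.ncard
        ≤ (↑((r.map S.phi).toFinset) : Set C).ncard := Set.ncard_le_ncard hroots (Set.toFinite _)
      _ = (r.map S.phi).toFinset.card := Set.ncard_coe_finset _
      _ ≤ r.length := le_trans (List.toFinset_card_le _) (le_of_eq (List.length_map _))
  have h2' : w.length ≤ {g : C | g * g = S.io 64 ∧ g * S.phi n = S.phi n * g}.ncard := by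
    calc w.length = (w.map S.phi).toFinset.card := hwcard.symm
      _ = (↑((w.map S.phi).toFinset) : Set C).ncard := (Set.ncard_coe_finset _).symm
      _ ≤ _ := Set.ncard_le_ncard hwits (Set.toFinite _)
  refine ⟨by omega, fun hne => ?_⟩
  have : exc.any (fun e => Nat.beq e n) = false := by
    rw [Bool.eq_false_iff]
    intro h
    obtain ⟨e, he, hen⟩ := List.any_eq_true.1 h
    exact hne e he (by rw [Nat.eq_of_beq_eq_true hen])
  rw [this, cond_false] at hlen
  omega

end Sys

end Cfsg.Agent.HeCent
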