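import Cfsg.Agent.Lib.HeUniq.Cent.Ext
import Mathlib.GroupTheory.OrderOfElement
import Mathlib.Tactic

/-!
An element of order seven splits the extraspecial group into two natural halves; this gives coordinates in which
its action is a fixed table.
-/

set_option autoImplicit false
set_option maxHeartbeats 400000

namespace Cfsg.Agent.HeCent

section

variable {C : Type*} [Group C]

/-- Conjugation by a power. -/
def cj (s : C) (k : ℕ) (g : C) : C := s ^ k * g * (s ^ k)⁻¹

theorem cj_zero (s g : C) : cj s 0 g = g := by simp [cj]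

theorem cj_one' (s g : C) : cj s 1 g = s * g * s⁻¹ := by simp [cj]

theorem cj_mul (s : C) (k : ℕ) (g h : C) : cj s k (g * h) = cj s k g * cj s k h := by simp [cj]

theorem cj_cj (s : C) (i j : ℕ) (g : C) : cj s i (cj s j g) = cj s (i + j) g := by
  simp [cj, pow_add, mul_assoc]

theorem cj_mod {s : C} (hs : s ^ 7 = 1) (k : ℕ) (g : C) : cj s k g = cj s (k % 7) g := by
  simp [cj, ← pow_mod_natCard, pow_eq_pow_mod k hs]

theorem cb_cj (s : C) (k : ℕ) (a b : C) : cb (cj s k a) (cj s k b) = cb a b := cb_conj _ _ _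

variable {Q : Subgroup C} {z : C} (hX : Ext Q z)

include hX

theorem Ext.cj_mem {g : C} (hg : g ∈ Q) (s : C) (k : ℕ) : cj s k g ∈ Q := hX.normal _ g hg

theorem Ext.cj_zp (s : C) (k : ℕ) (c : Bool) : cj s k (pw z c) = pw z c := by
  simp [cj, hX.zp_comm]

theorem Ext.sb_cj {g : C} (hg : g ∈ Q) (s : C) (k : ℕ) : sb (cj s k g) = sb g := by
  refine hX.zp_inj ?_
  rw [← hX.sq_eq (hX.cj_mem hg s k), ← hX.cj_zp s k (sb g), ← hX.sq_eq hg, cj_mul]

theorem Ext.cb_zp_right {g a : C} (hg : g ∈ Q) (ha : a ∈ Q) (c : Bool) : cb g (a * pw z c) = cb g a := by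
  rw [hX.cb_mul hg ha (hX.zp_mem c), hX.cb_zp, Bool.xor_false]

end

/-- The next index in the recurrence of a kind. -/
def kindIx (p : Bool) : ℕ := bif p then 1 else 2

/-- One term of the recurrence. -/
def recStep (p : Bool) (v : Bool × Bool × Bool) : Bool × Bool × Bool :=
  (v.2.1, v.2.2, v.1 ^^ (bif p then v.2.1 else v.2.2))

/-- A sequence of signs. -/
def seqB (p : Bool) (v : Bool × Bool × Bool) : ℕ → Bool
  | 0 => v.1
  | k + 1 => seqB p (recStep p v) k

/-- The translate by the inverse of the element of order seven. -/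
def backSeq (p : Bool) (v : Bool × Bool × Bool) (j k : ℕ) : Bool := seqB p v ((k + 7 - j % 7) % 7)

section

variable {C : Type*} [Group C] {Q : Subgroup C} {z : C}

/-- An element of a kind. -/
def Kind (z s : C) (p : Bool) (q : C) : Prop :=
  ∃ c : Bool, cj s 3 q = q * cj s (kindIx p) q * pw z c

variable (hX : Ext Q z) {s q : C} {p : Bool} (hq : q ∈ Q) (hk : Kind z s p q)

include hX hq hk

theorem kind_step (i : ℕ) : ∃ c : Bool, cj s (i + 3) q = cj s i q * cj s (i + kindIx p) q * pw z c := by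
  obtain ⟨c, hc⟩ := hk
  refine ⟨c, ?_⟩
  rw [← cj_cj, hc, cj_mul, cj_mul, cj_cj, hX.cj_zp]

theorem seq_eq {g : C} (hg : g ∈ Q) : ∀ (k i : ℕ), cb g (cj s (i + k) q) =
    seqB p (cb g (cj s i q), cb g (cj s (i + 1) q), cb g (cj s (i + 2) q)) k := by
  intro k
  induction k with
  | zero => intro i; rfl
  | succ k ih =>
    intro i
    rw [show i + (k + 1) = i + 1 + k by omega, ih (i + 1), seqB, recStep]
    obtain ⟨c, hc⟩ := kind_step hX hq hk i
    rw [show i + 1 + 1 = i + 2 by omega, show i + 1 + 2 = i + 3 by omega, hc,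
      hX.cb_zp_right hg (mul_mem (hX.cj_mem hq s i) (hX.cj_mem hq s _)),
      hX.cb_mul hg (hX.cj_mem hq s i) (hX.cj_mem hq s _)]
    cases p <;> rfl

/-- The orbit of an element of a kind is totally singular. -/
theorem orbit_singular : sb q = false ∧ ∀ i j, i ≤ 2 → j ≤ 2 → cb (cj s i q) (cj s j q) = false := by
  have h0 : ∀ i, cj s i q ∈ Q := fun i => hX.cj_mem hq s i
  have hA := seq_eq hX hq hk (h0 0) 3 0
  have hB := seq_eq hX hq hk (h0 1) 3 0
  have hC := seq_eq hX hq hk (h0 2) 3 0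
  have e13 : cb (cj s 1 q) (cj s 3 q) = cb (cj s 0 q) (cj s 2 q) := by
    have := cb_cj s 1 (cj s 0 q) (cj s 2 q); rw [cj_cj, cj_cj] at this; exact this
  have e23 : cb (cj s 2 q) (cj s 3 q) = cb (cj s 0 q) (cj s 1 q) := by
    have := cb_cj s 2 (cj s 0 q) (cj s 1 q); rw [cj_cj, cj_cj] at this; exact this
  have e12 : cb (cj s 1 q) (cj s 2 q) = cb (cj s 0 q) (cj s 1 q) := by
    have := cb_cj s 1 (cj s 0 q) (cj s 1 q); rw [cj_cj, cj_cj] at this; exact this
  simp only [seqB, recStep, Nat.zero_add, cb_self] at hA hB hC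
  rw [e13, cb_symm (cj s 1 q) (cj s 0 q), e12] at hB
  rw [e23, cb_symm (cj s 2 q) (cj s 0 q), cb_symm (cj s 2 q) (cj s 1 q), e12] at hC
  have h01 : cb (cj s 0 q) (cj s 1 q) = false ∧ cb (cj s 0 q) (cj s 2 q) = false := by
    revert hA hB hC
    generalize cb (cj s 0 q) (cj s 1 q) = a
    generalize cb (cj s 0 q) (cj s 2 q) = b
    generalize cb (cj s 0 q) (cj s 3 q) = c
    cases p <;> cases a <;> cases b <;> cases c <;> decide
  refine ⟨?_, fun i j hi hj => ?_⟩
  · obtain ⟨c, hc⟩ := hk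
    have e := hX.sb_cj hq s 3
    have hsz : sb (pw z c) = false := sb_eq_false.2 (by cases c <;> simp [pw, hX.zz])
    rw [hc, hX.sb_mul (mul_mem hq (hX.cj_mem hq s _)) (hX.zp_mem c), hX.sb_mul hq (hX.cj_mem hq s _),
      hX.sb_cj hq, hsz, cb_symm (pw z c), hX.cb_zp] at e
    have : cb (cj s (kindIx p) q) q = false := by
      rw [cb_symm]; nth_rw 1 [← cj_zero s q]
      cases p
      · exact h01.2
      · exact h01.1
    rw [this] at e
    simpa using e.symm
  · interval_cases i <;> interval_cases j <;>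
      simp [cb_self, h01.1, h01.2, e12, cb_symm (cj s 1 q) (cj s 0 q), cb_symm (cj s 2 q) (cj s 0 q),
        cb_symm (cj s 2 q) (cj s 1 q)]

/-- Some element of the subgroup induces a nonzero functional on the orbit, hence every functional occurs. -/
theorem exists_functional (hq0 : q ≠ 1) (hqz : q ≠ z) (hs : s ^ 7 = 1) (v : Bool × Bool × Bool) :
    ∃ r ∈ Q, (cb r (cj s 0 q), cb r (cj s 1 q), cb r (cj s 2 q)) = v ∧ (v = (false, false, false) → r = 1) := by
  obtain ⟨r, hr, hne⟩ : ∃ r ∈ Q, cb r q = true := by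
    by_contra h
    push Not at h
    rcases hX.center q hq (fun b hb => (cb_eq_false.1 (Bool.eq_false_iff.2 (h b hb))).symm) with e | e
    exacts [hq0 e, hqz e]
  set w := (cb r (cj s 0 q), cb r (cj s 1 q), cb r (cj s 2 q)) with hw
  rcases v with ⟨v0, v1, v2⟩
  by_cases hv : (v0, v1, v2) = (false, false, false)
  · exact ⟨1, one_mem Q, by rw [hv]; simp [cb_symm (1 : C), cb_one], fun _ => rfl⟩
  have hw1 : w.1 = true := by rw [hw]; show cb r (cj s 0 q) = true; rw [cj_zero]; exact hne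
  have key : ∀ p : Bool, ∀ w v : Bool × Bool × Bool, w.1 = true → v ≠ (false, false, false) →
      ∃ j : Fin 7, (backSeq p w j 0, backSeq p w j 1, backSeq p w j 2) = v := by decide
  obtain ⟨j, hj⟩ := key p w (v0, v1, v2) hw1 hv
  refine ⟨cj s j r, hX.cj_mem hr s j, ?_, fun h => absurd h hv⟩
  have hb : ∀ k ≤ 2, cb (cj s j r) (cj s k q) = backSeq p w j k := by
    intro k hk'
    have e := seq_eq hX hq hk hr ((k + 7 - (j : ℕ) % 7) % 7) 0
    rw [Nat.zero_add] at e
    unfold backSeq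
    rw [hw, ← e]
    conv_rhs => rw [← cb_cj s j, cj_cj, cj_mod hs ((j : ℕ) + _)]
    rw [cj_mod hs k]
    congr 2
    omega
  rw [hb 0 (by norm_num), hb 1 (by norm_num), hb 2 (by norm_num), hj]

end

section

variable {C : Type*} [Group C] {Q : Subgroup C} {z : C} (hX : Ext Q z)

/-- The orbit generators. -/
def orbE (s q : C) (u : Bool × Bool × Bool) : C :=
  pw (cj s 0 q) u.1 * pw (cj s 1 q) u.2.1 * pw (cj s 2 q) u.2.2

include hX

theorem orbE_mem {q : C} (hq : q ∈ Q) (s : C) (u : Bool × Bool × Bool) : orbE s q u ∈ Q :=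
  mul_mem (mul_mem (pw_mem (hX.cj_mem hq s 0) _) (pw_mem (hX.cj_mem hq s 1) _)) (pw_mem (hX.cj_mem hq s 2) _)

theorem cb_orbE {q g : C} (hq : q ∈ Q) (hg : g ∈ Q) (s : C) (u : Bool × Bool × Bool) :
    cb g (orbE s q u) = ((cb g (cj s 0 q) && u.1) ^^ (cb g (cj s 1 q) && u.2.1) ^^ (cb g (cj s 2 q) && u.2.2)) := by
  rw [orbE, hX.cb_mul hg (mul_mem (pw_mem (hX.cj_mem hq s 0) _) (pw_mem (hX.cj_mem hq s 1) _))
      (pw_mem (hX.cj_mem hq s 2) _), hX.cb_mul hg (pw_mem (hX.cj_mem hq s 0) _) (pw_mem (hX.cj_mem hq s 1) _),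
    hX.cb_pw, hX.cb_pw, hX.cb_pw]

/-- The centraliser of the orbit is spanned by the orbit and the centre. -/
theorem orbit_span {s q : C} {p : Bool} (hq : q ∈ Q) (hk : Kind z s p q) (hq0 : q ≠ 1) (hqz : q ≠ z)
    (hs : s ^ 7 = 1) {g : C} (hg : g ∈ Q) (h : ∀ i ≤ 2, cb g (cj s i q) = false) :
    ∃ u c, g = orbE s q u * pw z c := by
  have hsing := (orbit_singular hX hq hk).2
  choose R hRQ hR hR1 using exists_functional hX hq hk hq0 hqz hs
  have hE : ∀ u i, i ≤ 2 → cb (orbE s q u) (cj s i q) = false := by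
    intro u i hi
    rw [cb_symm, cb_orbE hX hq (hX.cj_mem hq s i), hsing i 0 hi (by norm_num), hsing i 1 hi (by norm_num),
      hsing i 2 hi le_rfl]
    simp
  let T := (Bool × Bool × Bool) × (Bool × Bool × Bool) × Bool
  let Φ : T → Q := fun t =>
    ⟨orbE s q t.1 * R t.2.1 * pw z t.2.2, mul_mem (mul_mem (orbE_mem hX hq s _) (hRQ _)) (hX.zp_mem _)⟩
  have hf : ∀ t i, i ≤ 2 → cb ((Φ t : Q) : C) (cj s i q) = cb (R t.2.1) (cj s i q) := by
    intro t i hi
    show cb (orbE s q t.1 * R t.2.1 * pw z t.2.2) _ = _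
    rw [hX.cb_mul_left (hX.cj_mem hq s i) (mul_mem (orbE_mem hX hq s _) (hRQ _)) (hX.zp_mem _),
      hX.cb_mul_left (hX.cj_mem hq s i) (orbE_mem hX hq s _) (hRQ _), hE _ _ hi, cb_symm (pw z _), hX.cb_zp]
    simp
  have hinj : Function.Injective Φ := by
    rintro ⟨u, v, c⟩ ⟨u', v', c'⟩ he
    have hv : v = v' := by
      rw [← hR v, ← hR v', ← hf ⟨u, v, c⟩ 0 (by norm_num), ← hf ⟨u, v, c⟩ 1 (by norm_num),
        ← hf ⟨u, v, c⟩ 2 le_rfl, he, hf ⟨u', v', c'⟩ 0 (by norm_num), hf ⟨u', v', c'⟩ 1 (by norm_num),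
        hf ⟨u', v', c'⟩ 2 le_rfl]
    subst hv
    have e : orbE s q u * R v * pw z c = orbE s q u' * R v * pw z c' := congrArg Subtype.val he
    rw [mul_assoc, hX.zp_comm (R v) c, mul_assoc, hX.zp_comm (R v) c', ← mul_assoc, ← mul_assoc,
      mul_left_inj] at e
    have ev : ∀ w, cb (R w) (orbE s q u) = cb (R w) (orbE s q u') := by
      intro w
      rw [← hX.cb_zp_right (hRQ w) (orbE_mem hX hq s u) c, e, hX.cb_zp_right (hRQ w) (orbE_mem hX hq s u')]
    have a0 := ev (true, false, false)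
    have a1 := ev (false, true, false)
    have a2 := ev (false, false, true)
    simp only [cb_orbE hX hq (hRQ _)] at a0 a1 a2
    have r0 := hR (true, false, false)
    have r1 := hR (false, true, false)
    have r2 := hR (false, false, true)
    simp only [Prod.mk.injEq] at r0 r1 r2
    simp [r0.1, r0.2.1, r0.2.2] at a0
    simp [r1.1, r1.2.1, r1.2.2] at a1
    simp [r2.1, r2.2.1, r2.2.2] at a2
    have hu : u = u' := Prod.ext a0 (Prod.ext a1 a2)
    subst hu
    rw [hX.zp_inj (mul_left_cancel e)]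
  have : Finite Q := Nat.finite_of_card_ne_zero (by rw [hX.card]; norm_num)
  have hsurj : Function.Surjective Φ :=
    (Nat.bijective_iff_injective_and_card Φ |>.2 ⟨hinj, by
      rw [hX.card, Nat.card_eq_fintype_card]; rfl⟩).2
  obtain ⟨⟨u, v, c⟩, ht⟩ := hsurj ⟨g, hg⟩
  have hval : ((Φ ⟨u, v, c⟩ : Q) : C) = g := congrArg Subtype.val ht
  have hv0 : ∀ i ≤ 2, cb (R v) (cj s i q) = false := fun i hi => by
    rw [← hf ⟨u, v, c⟩ i hi, hval]; exact h i hi
  have hv : v = (false, false, false) := by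
    rw [← hR v, hv0 0 (by norm_num), hv0 1 (by norm_num), hv0 2 le_rfl]
  refine ⟨u, c, ?_⟩
  rw [← hval]
  show orbE s q u * R v * pw z c = _
  rw [hR1 v hv, mul_one]

end

/-- The shift of the orbit coordinates. -/
def shiftT (p : Bool) (u : Bool × Bool × Bool) : Bool × Bool × Bool :=
  (u.2.2, u.1 ^^ (p && u.2.2), u.2.1 ^^ (!p && u.2.2))

/-- The sum of two coordinate vectors. -/
def addB (u v : Bool × Bool × Bool) : Bool × Bool × Bool := (u.1 ^^ v.1, u.2.1 ^^ v.2.1, u.2.2 ^^ v.2.2)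

section

variable {C : Type*} [Group C] {Q : Subgroup C} {z : C} (hX : Ext Q z) {s q : C} {p : Bool}

include hX

theorem inv_mul_zp {a : C} (ha : a ∈ Q) : a⁻¹ = a * pw z (sb a) := by
  refine inv_eq_of_mul_eq_one_right ?_
  rw [← mul_assoc, hX.sq_eq ha, hX.zp_xor, Bool.xor_self]; rfl

theorem kind_of_triple (hq : q ∈ Q) {c : Bool} (h : q * cj s (kindIx p) q * cj s 3 q = pw z c) :
    Kind z s p q := by
  have hm := mul_mem hq (hX.cj_mem hq s (kindIx p))
  refine ⟨sb (q * cj s (kindIx p) q) ^^ c, ?_⟩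
  rw [← hX.zp_xor, ← mul_assoc, ← inv_mul_zp hX hm, eq_inv_mul_iff_mul_eq]
  exact h

theorem eq_zp_of_cb {a : C} (ha : a ∈ Q) (h : ∀ g ∈ Q, cb g a = false) : ∃ c, a = pw z c := by
  rcases hX.center a ha (fun b hb => (cb_eq_false.1 (h b hb)).symm) with e | e
  exacts [⟨false, e⟩, ⟨true, e⟩]

variable (hq : q ∈ Q) (hk : Kind z s p q)

include hq hk

theorem orbE_mul (u v : Bool × Bool × Bool) : orbE s q u * orbE s q v = orbE s q (addB u v) := by
  obtain ⟨hsb, hc⟩ := orbit_singular hX hq hk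
  have h1 : ∀ i, cj s i q * cj s i q = 1 := fun i => sb_eq_false.1 (by rw [hX.sb_cj hq, hsb])
  exact triple_mul (h1 0) (h1 1) (h1 2) (cb_eq_false.1 (hc 0 1 (by norm_num) (by norm_num)))
    (cb_eq_false.1 (hc 0 2 (by norm_num) le_rfl)) (cb_eq_false.1 (hc 1 2 (by norm_num) le_rfl)) _ _ _ _ _ _

theorem cj_orbE (u : Bool × Bool × Bool) : ∃ c, cj s 1 (orbE s q u) = orbE s q (shiftT p u) * pw z c := by
  obtain ⟨c, hc⟩ := hk
  have hp : ∀ (g : C) (b : Bool), cj s 1 (pw g b) = pw (cj s 1 g) b := by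
    intro g b; cases b <;> simp [pw, cj]
  rw [orbE, cj_mul, cj_mul, hp, hp, hp, cj_cj, cj_cj, cj_cj]
  rcases u with ⟨u0, u1, u2⟩
  cases u2
  · refine ⟨false, ?_⟩
    have : shiftT p (u0, u1, false) = (false, u0, u1) := by cases p <;> simp [shiftT]
    rw [this]
    simp [orbE, pw]
  · refine ⟨c, ?_⟩
    obtain ⟨hsb, hcb⟩ := orbit_singular hX hq ⟨c, hc⟩
    have h1 : ∀ i, cj s i q * cj s i q = 1 := fun i => sb_eq_false.1 (by rw [hX.sb_cj hq, hsb])
    have e : cj s (1 + 2) q = orbE s q (true, p, !p) * pw z c := by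
      rw [show (1 : ℕ) + 2 = 3 from rfl, hc]
      cases p <;> simp [orbE, pw, kindIx, cj_zero]
    have e2 : pw (cj s (1 + 0) q) u0 * pw (cj s (1 + 1) q) u1 = orbE s q (false, u0, u1) := by
      simp [orbE, pw]
    show pw (cj s (1 + 0) q) u0 * pw (cj s (1 + 1) q) u1 * cj s (1 + 2) q = _
    rw [e, e2, ← mul_assoc, orbE_mul hX hq ⟨c, hc⟩]
    cases p <;> simp [shiftT, addB]

theorem cj_orbE_pow : ∀ (j : ℕ) (u : Bool × Bool × Bool),
    ∃ c, cj s j (orbE s q u) = orbE s q ((shiftT p)^[j] u) * pw z c := by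
  intro j
  induction j with
  | zero => intro u; exact ⟨false, by simp [cj_zero, pw]⟩
  | succ j ih =>
    intro u
    obtain ⟨c, hc⟩ := ih u
    obtain ⟨c', hc'⟩ := cj_orbE hX hq hk ((shiftT p)^[j] u)
    refine ⟨c' ^^ c, ?_⟩
    rw [show j + 1 = 1 + j by omega, ← cj_cj, hc, cj_mul, hX.cj_zp, hc', mul_assoc, hX.zp_xor,
      show 1 + j = j + 1 by omega, Function.iterate_succ_apply']

theorem cb_back {r : C} (hr : r ∈ Q) (hs : s ^ 7 = 1) (j : ℕ) {k : ℕ} (hk' : k ≤ 2) :
    cb (cj s j r) (cj s k q) = backSeq p (cb r (cj s 0 q), cb r (cj s 1 q), cb r (cj s 2 q)) j k := by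
  have e := seq_eq hX hq hk hr ((k + 7 - j % 7) % 7) 0
  rw [Nat.zero_add] at e
  unfold backSeq
  rw [← e]
  conv_rhs => rw [← cb_cj s j, cj_cj, cj_mod hs (j + _)]
  rw [cj_mod hs k]
  congr 2
  omega

/-- An element of the other kind with a prescribed functional. -/
theorem other_kind (hq0 : q ≠ 1) (hqz : q ≠ z) (hs : s ^ 7 = 1) :
    ∃ r ∈ Q, Kind z s (!p) r ∧
      (cb r (cj s 0 q), cb r (cj s 1 q), cb r (cj s 2 q)) = (true, false, false) := by
  have key : ∀ p : Bool, ∃ v, ∀ k : Fin 3, ((backSeq p v 0 k ^^ backSeq p v (kindIx p) k) ^^ backSeq p v 3 k) =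
      decide (k = 0) := by decide
  obtain ⟨v, hv⟩ := key p
  obtain ⟨r, hr, hrv, -⟩ := exists_functional hX hq hk hq0 hqz hs v
  set P := r * cj s (kindIx p) r * cj s 3 r with hP
  have hPQ : P ∈ Q := mul_mem (mul_mem hr (hX.cj_mem hr s _)) (hX.cj_mem hr s _)
  have hPv : ∀ k : Fin 3, cb P (cj s k q) = decide (k = 0) := by
    intro k
    have hk2 : (k : ℕ) ≤ 2 := by omega
    rw [hP, hX.cb_mul_left (hX.cj_mem hq s k) (mul_mem hr (hX.cj_mem hr s _)) (hX.cj_mem hr s _),
      hX.cb_mul_left (hX.cj_mem hq s k) hr (hX.cj_mem hr s _), cb_back hX hq hk hr hs _ hk2,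
      cb_back hX hq hk hr hs _ hk2, ← hv k, ← hrv]
    congr 2
    have := cb_back hX hq hk hr hs 0 hk2
    rwa [cj_zero] at this
  set D := P * cj s (kindIx !p) P * cj s 3 P with hD
  have hDQ : D ∈ Q := mul_mem (mul_mem hPQ (hX.cj_mem hPQ s _)) (hX.cj_mem hPQ s _)
  have hPtrip : (cb P (cj s 0 q), cb P (cj s 1 q), cb P (cj s 2 q)) = (true, false, false) :=
    Prod.ext (hPv 0) (Prod.ext (hPv 1) (hPv 2))
  have hDv : ∀ i ≤ 2, cb D (cj s i q) = false := by
    intro i hi
    have h0 := cb_back hX hq hk hPQ hs 0 hi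
    rw [cj_zero] at h0
    rw [hD, hX.cb_mul_left (hX.cj_mem hq s i) (mul_mem hPQ (hX.cj_mem hPQ s _)) (hX.cj_mem hPQ s _),
      hX.cb_mul_left (hX.cj_mem hq s i) hPQ (hX.cj_mem hPQ s _), cb_back hX hq hk hPQ hs _ hi,
      cb_back hX hq hk hPQ hs _ hi, h0, hPtrip]
    have : ∀ p : Bool, ∀ i : Fin 3, ((backSeq p (true, false, false) 0 i ^^
        backSeq p (true, false, false) (kindIx !p) i) ^^ backSeq p (true, false, false) 3 i) = false := by decide
    exact this p ⟨i, by omega⟩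
  obtain ⟨u, c, hu⟩ := orbit_span hX hq hk hq0 hqz hs hDQ hDv
  have key2 : ∀ p : Bool, ∀ u, ∃ w,
      addB u (addB (addB w ((shiftT p)^[kindIx !p] w)) ((shiftT p)^[3] w)) = (false, false, false) := by decide
  obtain ⟨w, hw⟩ := key2 p u
  set e := orbE s q w with he
  have heQ : e ∈ Q := orbE_mem hX hq s w
  refine ⟨P * e, mul_mem hPQ heQ, ?_, ?_⟩
  · obtain ⟨c1, h1⟩ := cj_orbE_pow hX hq hk (kindIx !p) w
    obtain ⟨c3, h3⟩ := cj_orbE_pow hX hq hk 3 w
    set b := cj s (kindIx !p) P with hb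
    set d := cj s 3 P with hd
    set f := cj s (kindIx !p) e with hf
    set g := cj s 3 e with hg
    have hbQ : b ∈ Q := hX.cj_mem hPQ s _
    have hdQ : d ∈ Q := hX.cj_mem hPQ s _
    have hfQ : f ∈ Q := hX.cj_mem heQ s _
    have hgQ : g ∈ Q := hX.cj_mem heQ s _
    obtain ⟨c0, hc0⟩ : ∃ c0, P * e * (b * f) * (d * g) = D * (e * f * g) * pw z c0 := by
      refine ⟨cb (e * f) d ^^ cb e b, ?_⟩
      calc P * e * (b * f) * (d * g) = P * (e * b) * f * d * g := by group
        _ = P * b * (e * f * d * g) * pw z (cb e b) := by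
          rw [hX.swap heQ hbQ]
          simp only [mul_assoc]
          rw [← hX.zp_comm (f * (d * g))]
          simp only [mul_assoc]
        _ = P * b * (d * (e * f) * g) * pw z (cb (e * f) d) * pw z (cb e b) := by
          rw [hX.swap (mul_mem heQ hfQ) hdQ, mul_assoc _ (pw z (cb (e * f) d)) g, ← hX.zp_comm g]
          simp only [mul_assoc]
        _ = _ := by rw [hD, ← hX.zp_xor]; group
    obtain ⟨c', hefg⟩ : ∃ c', e * f * g =
        orbE s q (addB (addB w ((shiftT p)^[kindIx !p] w)) ((shiftT p)^[3] w)) * pw z c' := by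
      refine ⟨c1 ^^ c3, ?_⟩
      rw [h1, h3, he, ← orbE_mul hX hq hk, ← orbE_mul hX hq hk, ← hX.zp_xor]
      simp only [mul_assoc]
      rw [← mul_assoc (pw z c1) (orbE s q _), ← hX.zp_comm (orbE s q _), mul_assoc]
    refine kind_of_triple hX (mul_mem hPQ heQ) (c := c ^^ c' ^^ c0) ?_
    rw [cj_mul s _ P e, cj_mul s 3 P e, ← hb, ← hf, ← hd, ← hg, hc0, hefg, hu]
    generalize hV : addB (addB w ((shiftT p)^[kindIx !p] w)) ((shiftT p)^[3] w) = V at hw hefg ⊢
    calc orbE s q u * pw z c * (orbE s q V * pw z c') * pw z c0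
        = orbE s q u * (pw z c * orbE s q V) * pw z c' * pw z c0 := by group
      _ = orbE s q (addB u V) * (pw z c * pw z c' * pw z c0) := by
          rw [← hX.zp_comm (orbE s q V) c, ← orbE_mul hX hq hk u V]; group
      _ = _ := by rw [hw, hX.zp_xor, hX.zp_xor]; simp [orbE, pw]
  · have hz : ∀ i ≤ 2, cb e (cj s i q) = false := by
      intro i hi
      have hsing := (orbit_singular hX hq hk).2
      rw [cb_symm, he, cb_orbE hX hq (hX.cj_mem hq s i), hsing i 0 hi (by norm_num), hsing i 1 hi (by norm_num),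
        hsing i 2 hi le_rfl]
      simp
    rw [hX.cb_mul_left (hX.cj_mem hq s 0) hPQ heQ, hX.cb_mul_left (hX.cj_mem hq s 1) hPQ heQ,
      hX.cb_mul_left (hX.cj_mem hq s 2) hPQ heQ, hz 0 (by norm_num), hz 1 (by norm_num), hz 2 le_rfl]
    simpa using hPtrip

end

/-- Conjugation of coded elements from the images of the generators. -/
theorem Frame.conj_io {C : Type*} [Group C] {Q : Subgroup C} {z : C} (hX : Ext Q z) (F : Frame Q) (g : C)
    {imgs : List ℕ} (hlt : ∀ i < 6, imgs.getD i 0 < 128)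
    (hg : ∀ i < 6, g * F.io z (2 ^ i) * g⁻¹ = F.io z (imgs.getD i 0)) {a : ℕ} (ha : a < 128) :
    g * F.io z a * g⁻¹ = F.io z (autQ imgs a) := by
  have h127 : ∀ a < 128, a &&& 127 = a := by decide +kernel
  have hb : ∀ (l : List ℕ) i, selQ l a i < 128 := by
    intro l i; unfold selQ
    cases a.testBit i
    · exact (by norm_num : 0 < 128)
    · exact lt_of_le_of_lt Nat.and_le_right (by norm_num)
  have h64 : a &&& 64 < 128 := lt_of_le_of_lt Nat.and_le_right (by norm_num)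
  have hm : ∀ {x y : ℕ}, x < 128 → y < 128 → qmul x y < 128 := by
    have : ∀ x < 128, ∀ y < 128, qmul x y < 128 := by decide +kernel
    intro x y hx hy; exact this x hx y hy
  have hid : ∀ a < 128, autQ [1, 2, 4, 8, 16, 32] a = a := by decide +kernel
  have hs : ∀ i < 6, g * F.io z (selQ [1, 2, 4, 8, 16, 32] a i) * g⁻¹ = F.io z (selQ imgs a i) := by
    intro i hi
    unfold selQ
    cases a.testBit i
    · simp [F.io_zero hX]
    · simp only [cond_true]
      rw [h127 _ (hlt i hi), ← hg i hi]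
      interval_cases i <;> rfl
  have hz : g * F.io z (a &&& 64) * g⁻¹ = F.io z (a &&& 64) := by
    have : ∀ a < 128, a &&& 64 = 0 ∨ a &&& 64 = 64 := by decide +kernel
    rcases this a ha with e | e <;> rw [e]
    · simp [F.io_zero hX]
    · rw [F.io_z hX, hX.central g, mul_inv_cancel_right]
  have expand : ∀ l : List ℕ, F.io z (autQ l a) = F.io z (selQ l a 0) * F.io z (selQ l a 1) *
      F.io z (selQ l a 2) * F.io z (selQ l a 3) * F.io z (selQ l a 4) * F.io z (selQ l a 5) *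
      F.io z (a &&& 64) := by
    intro l
    unfold autQ
    rw [← F.io_mul hX (hm (hm (hm (hm (hm (hb l 0) (hb l 1)) (hb l 2)) (hb l 3)) (hb l 4)) (hb l 5)) h64,
      ← F.io_mul hX (hm (hm (hm (hm (hb l 0) (hb l 1)) (hb l 2)) (hb l 3)) (hb l 4)) (hb l 5),
      ← F.io_mul hX (hm (hm (hm (hb l 0) (hb l 1)) (hb l 2)) (hb l 3)) (hb l 4),
      ← F.io_mul hX (hm (hm (hb l 0) (hb l 1)) (hb l 2)) (hb l 3),
      ← F.io_mul hX (hm (hb l 0) (hb l 1)) (hb l 2), ← F.io_mul hX (hb l 0) (hb l 1)]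
  conv_lhs => rw [← hid a ha, expand]
  rw [expand, ← hs 0 (by norm_num), ← hs 1 (by norm_num), ← hs 2 (by norm_num), ← hs 3 (by norm_num),
    ← hs 4 (by norm_num), ← hs 5 (by norm_num)]
  conv_rhs => rw [← hz]
  group

section

variable {C : Type*} [Group C] {Q : Subgroup C} {z : C} (hX : Ext Q z)

include hX

theorem exists_kind {s : C} (hs : s ^ 7 = 1) (hs1 : s ≠ 1) :
    ∃ p q, q ∈ Q ∧ q ≠ 1 ∧ q ≠ z ∧ Kind z s p q := by
  obtain ⟨r, hr, hrs⟩ : ∃ r ∈ Q, ∀ c, cj s 1 r ≠ r * pw z c := by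
    by_contra h
    push Not at h
    refine hs1 ?_
    have hsQ : s ∈ Q := by
      refine hX.faithful s fun a ha => ?_
      obtain ⟨c, hc⟩ := h a ha
      have hj : ∀ j : ℕ, cj s j a = a * pw z (Nat.rec false (fun _ b => c ^^ b) j) := by
        intro j
        induction j with
        | zero => simp [cj_zero, pw]
        | succ j ih =>
          rw [show j + 1 = 1 + j by omega, ← cj_cj, ih, cj_mul, hX.cj_zp, hc, mul_assoc, hX.zp_xor,
            show 1 + j = j + 1 by omega]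
      have h7 := hj 7
      rw [cj_mod hs, show (7 : ℕ) % 7 = 0 from rfl, cj_zero] at h7
      have hc0 : c = false := by
        have : pw z c = 1 := mul_eq_left.1 (h7.trans (by cases c <;> rfl)).symm
        cases c
        · rfl
        · exact absurd this hX.ne
      rw [hc0] at hc
      rw [← mul_inv_eq_iff_eq_mul, ← cj_one', hc]
      simp [pw]
    have : Finite Q := Nat.finite_of_card_ne_zero (by rw [hX.card]; norm_num)
    have h128 : s ^ 128 = 1 := by
      have := pow_card_eq_one' (x := (⟨s, hsQ⟩ : Q))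
      rw [hX.card] at this
      exact congrArg Subtype.val this
    rw [show 128 = 7 * 18 + 2 from rfl, pow_add, pow_mul, hs, one_pow, one_mul] at h128
    have : s ^ 7 = s := by rw [show 7 = 2 * 3 + 1 from rfl, pow_add, pow_mul, h128, one_pow, one_mul, pow_one]
    exact this.symm.trans hs
  set d := r * cj s 1 r with hd
  have hdQ : d ∈ Q := mul_mem hr (hX.cj_mem hr s 1)
  have hdne : ∀ c, d ≠ pw z c := by
    intro c h
    refine hrs (sb r ^^ c) ?_
    rw [← hX.zp_xor, ← mul_assoc, ← inv_mul_zp hX hr, eq_inv_mul_iff_mul_eq, ← h]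
  set P := d * cj s 1 d * cj s 3 d with hP
  have hPQ : P ∈ Q := mul_mem (mul_mem hdQ (hX.cj_mem hdQ s _)) (hX.cj_mem hdQ s _)
  by_cases hPz : ∃ c, P = pw z c
  · obtain ⟨c, hc⟩ := hPz
    exact ⟨true, d, hdQ, fun h => hdne false h, fun h => hdne true h, kind_of_triple hX hdQ hc⟩
  push Not at hPz
  refine ⟨false, P, hPQ, fun h => hPz false h, fun h => hPz true h, ?_⟩
  have hm := hX.cj_mem (g := P) hPQ s
  obtain ⟨c, hc⟩ := eq_zp_of_cb hX (mul_mem (mul_mem hPQ (hm 2)) (hm 3)) (fun g hg => by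
    have hr' : ∀ j, cj s j r ∈ Q := fun j => hX.cj_mem hr s j
    have hd' : ∀ j, cb g (cj s j d) = (cb g (cj s (j % 7) r) ^^ cb g (cj s ((j + 1) % 7) r)) := by
      intro j
      rw [hd, cj_mul, cj_cj, hX.cb_mul hg (hr' _) (hr' _), cj_mod hs j, cj_mod hs (j + 1)]
    have hP' : ∀ j, cb g (cj s j P) = ((cb g (cj s j d) ^^ cb g (cj s (j + 1) d)) ^^ cb g (cj s (j + 3) d)) := by
      intro j
      have hdm := hX.cj_mem (g := d) hdQ s
      rw [hP, cj_mul, cj_mul, cj_cj, cj_cj, hX.cb_mul hg (mul_mem (hdm _) (hdm _)) (hdm _),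
        hX.cb_mul hg (hdm _) (hdm _)]
    rw [hX.cb_mul hg (mul_mem hPQ (hm 2)) (hm 3), hX.cb_mul hg hPQ (hm 2)]
    conv_lhs => rw [show P = cj s 0 P from (cj_zero s P).symm, cj_cj, cj_cj]
    simp only [hP', hd']
    norm_num
    generalize cb g (cj s 0 r) = a0
    generalize cb g (cj s 1 r) = a1
    generalize cb g (cj s 2 r) = a2
    generalize cb g (cj s 3 r) = a3
    generalize cb g (cj s 4 r) = a4
    generalize cb g (cj s 5 r) = a5
    generalize cb g (cj s 6 r) = a6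
    cases a0 <;> cases a1 <;> cases a2 <;> cases a3 <;> cases a4 <;> cases a5 <;> cases a6 <;> rfl)
  exact kind_of_triple hX (p := false) hPQ hc

/-- Coordinates in which an element of order seven acts by the fixed table. -/
theorem exists_frame {s : C} (hs : s ^ 7 = 1) (hs1 : s ≠ 1) :
    ∃ F : Frame Q, ∀ a < 128, s * F.io z a * s⁻¹ = F.io z (autQ imgS a) := by
  obtain ⟨q, hq, hq0, hqz, hk⟩ : ∃ q, q ∈ Q ∧ q ≠ 1 ∧ q ≠ z ∧ Kind z s true q := by
    obtain ⟨p, q, hq, h0, hz, hk⟩ := exists_kind hX hs hs1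
    cases p
    · obtain ⟨r, hr, hrk, hrv⟩ := other_kind hX hq hk h0 hz hs
      refine ⟨r, hr, fun h => ?_, fun h => ?_, hrk⟩ <;> subst h <;> simp only [Prod.mk.injEq] at hrv
      · rw [cb_symm, cb_one] at hrv; exact Bool.false_ne_true hrv.1
      · rw [cb_eq_false.2 (hX.central _).symm] at hrv; exact Bool.false_ne_true hrv.1
    · exact ⟨q, hq, h0, hz, hk⟩
  obtain ⟨q, hq, hq0, hqz, hk, hke⟩ : ∃ q, q ∈ Q ∧ q ≠ 1 ∧ q ≠ z ∧ Kind z s true q ∧
      cj s 3 q = q * cj s 1 q := by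
    obtain ⟨c, hc⟩ := hk
    have e : cj s 3 (q * pw z c) = q * pw z c * cj s 1 (q * pw z c) := by
      rw [cj_mul, cj_mul, hX.cj_zp, hX.cj_zp, hc]
      simp only [kindIx, cond_true, mul_assoc]
      rw [← mul_assoc (pw z c) (cj s 1 q), ← hX.zp_comm (cj s 1 q), mul_assoc]
    refine ⟨q * pw z c, mul_mem hq (hX.zp_mem c), ?_, ?_, ⟨false, ?_⟩, e⟩
    · cases c
      · simpa [pw] using hq0
      · intro h
        exact hqz (by
          have h' := eq_inv_of_mul_eq_one_left (show q * z = 1 from h)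
          rw [h', inv_eq_of_mul_eq_one_left hX.zz])
    · cases c
      · simpa [pw] using hqz
      · intro h
        exact hq0 (mul_eq_right.1 (show q * z = z from h))
    · rw [e]; simp [kindIx, pw]
  obtain ⟨r, hr, hrk, hrv, hre⟩ : ∃ r, r ∈ Q ∧ Kind z s false r ∧
      (cb r (cj s 0 q), cb r (cj s 1 q), cb r (cj s 2 q)) = (true, false, false) ∧ cj s 3 r = r * cj s 2 r := by
    obtain ⟨r, hr, hrk, hrv⟩ := other_kind hX hq hk hq0 hqz hs
    obtain ⟨c, hc⟩ := hrk
    have e : cj s 3 (r * pw z c) = r * pw z c * cj s 2 (r * pw z c) := by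
      rw [cj_mul, cj_mul, hX.cj_zp, hX.cj_zp, hc]
      simp only [kindIx, Bool.not_true, cond_false, mul_assoc]
      rw [← mul_assoc (pw z c) (cj s 2 r), ← hX.zp_comm (cj s 2 r), mul_assoc]
    refine ⟨r * pw z c, mul_mem hr (hX.zp_mem c), ⟨false, ?_⟩, ?_, e⟩
    · rw [e]; simp [kindIx, pw]
    · simp only [cb_symm (r * pw z c), hX.cb_zp_right (hX.cj_mem hq s _) hr, ← cb_symm r]
      exact hrv
  obtain ⟨qsb, qcb⟩ := orbit_singular hX hq hk
  obtain ⟨rsb, rcb⟩ := orbit_singular hX hr hrk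
  have hE : ∀ i, cj s i q ∈ Q := fun i => hX.cj_mem hq s i
  have hR : ∀ i, cj s i r ∈ Q := fun i => hX.cj_mem hr s i
  have hr2 : ∀ i, cj s i r * cj s i r = 1 := fun i => sb_eq_false.1 (by rw [hX.sb_cj hr, rsb])
  have rc : ∀ i j, i ≤ 2 → j ≤ 2 → cj s i r * cj s j r = cj s j r * cj s i r :=
    fun i j hi hj => cb_eq_false.1 (rcb i j hi hj)
  let f : Fin 3 → C := ![cj s 0 r, cj s 0 r * cj s 1 r, cj s 1 r * cj s 2 r]
  have hfQ : ∀ i, f i ∈ Q := by
    intro i; fin_cases i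
    exacts [hR 0, mul_mem (hR 0) (hR 1), mul_mem (hR 1) (hR 2)]
  have hsq : ∀ i j, i ≤ 2 → j ≤ 2 → cj s i r * cj s j r * (cj s i r * cj s j r) = 1 := by
    intro i j hi hj
    rw [mul_assoc, ← mul_assoc (cj s j r) (cj s i r), rc j i hj hi, mul_assoc (cj s i r), hr2, mul_one, hr2]
  let F : Frame Q :=
    { e := fun i => cj s i q
      f := f
      eQ := fun i => hE i
      fQ := hfQ
      ee := fun i j => qcb i j (by omega) (by omega)
      ff := by
        intro i j
        fin_cases i <;> fin_cases j <;>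
          simp [f, hX.cb_mul (mul_mem (hR _) (hR _)) (hR _) (hR _), hX.cb_mul (hR _) (hR _) (hR _),
            hX.cb_mul_left (hR _) (hR _) (hR _), rcb]
      ef := by
        intro i j
        have hb : ∀ (a : ℕ) (i : Fin 3), cb (cj s i q) (cj s a r) = backSeq true (true, false, false) a i := by
          intro a i; rw [cb_symm, cb_back hX hq hk hr hs a (by omega), hrv]
        fin_cases j
        · refine (hb 0 i).trans ?_
          fin_cases i <;> decide
        · show cb _ (cj s 0 r * cj s 1 r) = _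
          rw [hX.cb_mul (hE _) (hR _) (hR _), hb 0 i, hb 1 i]
          fin_cases i <;> decide
        · show cb _ (cj s 1 r * cj s 2 r) = _
          rw [hX.cb_mul (hE _) (hR _) (hR _), hb 1 i, hb 2 i]
          fin_cases i <;> decide
      esq := fun i => sb_eq_false.1 (by rw [hX.sb_cj hq, qsb])
      fsq := by
        intro i; fin_cases i
        exacts [hr2 0, hsq 0 1 (by norm_num) (by norm_num), hsq 1 2 (by norm_num) le_rfl] }
  refine ⟨F, fun a ha => F.conj_io hX s (by decide) ?_ ha⟩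
  obtain ⟨g1, g2, g4, g8, g16, g32⟩ := F.io_gens hX (z := z)
  have g3 : F.io z 3 = F.e 0 * F.e 1 := by
    rw [← g1, ← g2, F.io_mul hX (by norm_num) (by norm_num)]; rfl
  have g24 : F.io z 24 = F.f 0 * F.f 1 := by
    rw [← g8, ← g16, F.io_mul hX (by norm_num) (by norm_num)]; rfl
  have hc1 : ∀ g, s * g * s⁻¹ = cj s 1 g := fun g => (cj_one' s g).symm
  intro i hi
  interval_cases i
  · show s * F.io z 1 * s⁻¹ = F.io z 2
    rw [g1, g2, hc1]; show cj s 1 (cj s 0 q) = cj s 1 q; rw [cj_zero]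
  · show s * F.io z 2 * s⁻¹ = F.io z 4
    rw [g2, g4, hc1]; show cj s 1 (cj s 1 q) = cj s 2 q; rw [cj_cj]
  · show s * F.io z 4 * s⁻¹ = F.io z 3
    rw [g4, g3, hc1]; show cj s 1 (cj s 2 q) = cj s 0 q * cj s 1 q; rw [cj_cj, cj_zero]; exact hke
  · show s * F.io z 8 * s⁻¹ = F.io z 24
    rw [g8, g24, hc1]; show cj s 1 (cj s 0 r) = cj s 0 r * (cj s 0 r * cj s 1 r)
    rw [cj_cj, ← mul_assoc, hr2, one_mul]
  · show s * F.io z 16 * s⁻¹ = F.io z 32
    rw [g16, g32, hc1]; show cj s 1 (cj s 0 r * cj s 1 r) = cj s 1 r * cj s 2 r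
    rw [cj_mul, cj_cj, cj_cj]
  · show s * F.io z 32 * s⁻¹ = F.io z 8
    rw [g32, g8, hc1]; show cj s 1 (cj s 1 r * cj s 2 r) = cj s 0 r
    rw [cj_mul, cj_cj, cj_cj, show (1 : ℕ) + 1 = 2 from rfl, show (1 : ℕ) + 2 = 3 from rfl, hre, cj_zero,
      ← mul_assoc]
    have := rc 2 0 le_rfl (by norm_num)
    rw [cj_zero] at this
    rw [this, mul_assoc, hr2, mul_one]

end

end Cfsg.Agent.HeCent
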