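/-! Search trees for lists of square roots. -/

set_option autoImplicit false

namespace Cfsg.Agent.HeCent

/-- A search tree: key, roots, witnesses. -/
inductive RT where
  | leaf : RT
  | node : Nat → List Nat → List Nat → RT → RT → RT

/-- Looking up a key. -/
def RT.find (n : Nat) : RT → Option (List Nat × List Nat)
  | .leaf => none
  | .node k r w a b => bif Nat.blt n k then a.find n else bif Nat.beq n k then some (r, w) else b.find n

end Cfsg.Agent.HeCent
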