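import Cfsg.Agent.Lib.HeUniq.Cent.Ext
import Cfsg.Agent.Lib.Compute.PermCert

/-!
Finite searches on the coded extraspecial group: the actions compatible with the relations of the simple group
of order 168.
-/

set_option autoImplicit false
set_option maxRecDepth 100000

namespace Cfsg.Agent.HeCent

open Cfsg.Agent.PermCert (allBelow allBelow_spec)

/-- The product of the twisted translates. -/
def normN (n : ℕ) : ℕ → ℕ
  | 0 => 0
  | j + 1 => qmul n (autQ imgS (autQ imgS (normN n j)))

theorem conj_solve : ∀ n < 128, normN n 7 = 0 →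
    ∃ a < 128, qmul a (qinv (autQ imgS (autQ imgS a))) = n := by decide +kernel

/-- Twice the element of order seven. -/
def sTwo (a : ℕ) : ℕ := autQ imgS (autQ imgS a)

/-- The images under an element of order three from the images of the first members. -/
def imgsB (a a' : ℕ) : List ℕ :=
  [a, sTwo a, sTwo (sTwo a), a', qmul a' (sTwo a'), sTwo (qmul a' (sTwo a'))]

/-- The image of the first member is possible. -/
def goodA (a : ℕ) : Bool :=
  !Nat.beq (a &&& 63) 0 && Nat.beq (sTwo (sTwo (sTwo a))) (qmul a (sTwo a))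

/-- Both images are possible. -/
def goodB (a a' : ℕ) : Bool :=
  Nat.beq (sTwo (sTwo (qmul a' (sTwo a')))) a' && !Nat.beq (qmul a a') (qmul a' a) &&
    Nat.beq (qmul (sTwo a) a') (qmul a' (sTwo a)) && Nat.beq (qmul (sTwo (sTwo a)) a') (qmul a' (sTwo (sTwo a))) &&
    Nat.beq (autQ (imgsB a a') (autQ (imgsB a a') a)) 1 && Nat.beq (autQ (imgsB a a') (autQ (imgsB a a') a')) 8

/-- A power of the element of order seven. -/
def sPow : ℕ → ℕ → ℕ
  | 0, a => a
  | j + 1, a => autQ imgS (sPow j a)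

/-- The search for the element of order three. -/
def searchB : Bool :=
  allBelow (fun a => !goodA a || allBelow (fun a' => !goodB a a' || (List.range 7).any fun j =>
    [1, 2, 4, 8, 16, 32].all fun g =>
      Nat.beq (sPow j (autQ (imgsB a a') (sPow (7 - j) g))) (autQ imgB g)) 128) 128

theorem searchB_ok : searchB = true := by decide +kernel

theorem searchB_spec {a a' : ℕ} (ha : a < 128) (ha' : a' < 128) (h1 : goodA a = true) (h2 : goodB a a' = true) :
    ∃ j < 7, ∀ g ∈ [1, 2, 4, 8, 16, 32], sPow j (autQ (imgsB a a') (sPow (7 - j) g)) = autQ imgB g := by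
  have h := allBelow_spec _ _ searchB_ok a ha
  rw [h1, Bool.not_true, Bool.false_or] at h
  have h' := allBelow_spec _ _ h a' ha'
  rw [h2, Bool.not_true, Bool.false_or] at h'
  simpa only [List.any_eq_true, List.mem_range, List.all_eq_true, Nat.beq_eq] using h'

/-- A term of a linear map on six bits. -/
def selL (cols : List ℕ) (q i : ℕ) : ℕ := bif q.testBit i then (cols.getD i 0) &&& 63 else 0

/-- A linear map on six bits. -/
def linQ (cols : List ℕ) (q : ℕ) : ℕ :=
  selL cols q 0 ^^^ selL cols q 1 ^^^ selL cols q 2 ^^^ selL cols q 3 ^^^ selL cols q 4 ^^^ selL cols q 5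

theorem qmul_low : ∀ a < 128, ∀ b < 128, qmul a b &&& 63 = (a &&& 63) ^^^ (b &&& 63) := by decide +kernel

theorem autQ_low (imgs : List ℕ) {q : ℕ} (_hq : q < 128) : autQ imgs q &&& 63 = linQ imgs q := by
  have hm : ∀ {x y : ℕ}, x < 128 → y < 128 → qmul x y < 128 := by
    have : ∀ x < 128, ∀ y < 128, qmul x y < 128 := by decide +kernel
    intro x y hx hy; exact this x hx y hy
  have hb : ∀ i, selQ imgs q i < 128 := by
    intro i; unfold selQ
    cases q.testBit i
    · exact (by norm_num : 0 < 128)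
    · exact lt_of_le_of_lt Nat.and_le_right (by norm_num)
  have h64 : q &&& 64 < 128 := lt_of_le_of_lt Nat.and_le_right (by norm_num)
  have hsel : ∀ i, selQ imgs q i &&& 63 = selL imgs q i := by
    intro i; unfold selQ selL
    cases q.testBit i
    · simp [Nat.zero_and]
    · simp only [cond_true]; rw [Nat.land_assoc]; rfl
  have hz : (q &&& 64) &&& 63 = 0 := by rw [Nat.land_assoc]; exact Nat.and_zero q
  unfold autQ linQ
  rw [qmul_low _ (hm (hm (hm (hm (hm (hb 0) (hb 1)) (hb 2)) (hb 3)) (hb 4)) (hb 5)) _ h64,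
    qmul_low _ (hm (hm (hm (hm (hb 0) (hb 1)) (hb 2)) (hb 3)) (hb 4)) _ (hb 5),
    qmul_low _ (hm (hm (hm (hb 0) (hb 1)) (hb 2)) (hb 3)) _ (hb 4),
    qmul_low _ (hm (hm (hb 0) (hb 1)) (hb 2)) _ (hb 3),
    qmul_low _ (hm (hb 0) (hb 1)) _ (hb 2), qmul_low _ (hb 0) _ (hb 1)]
  simp only [hsel, hz, Nat.xor_zero]

/-- The quadratic form. -/
def quad (a : ℕ) : ℕ := par3 ((a >>> 3) &&& a &&& 7)

/-- The bilinear form. -/
def bform (a b : ℕ) : ℕ := par3 ((a >>> 3) &&& b &&& 7) ^^^ par3 ((b >>> 3) &&& a &&& 7)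

/-- The columns from the four free images. -/
def colsX (a1 a4 a2 a5 : ℕ) : List ℕ :=
  [a1, a2, linQ imgB (linQ imgB a2), a4, a5, a5 ^^^ linQ imgB (linQ imgB a5)]

/-- The relations on the six generators. -/
def relX (cols : List ℕ) : Bool :=
  [1, 2, 4, 8, 16, 32].all fun g =>
    Nat.beq (linQ cols (linQ cols g)) g &&
    Nat.beq (linQ cols (linQ imgS (linQ cols (linQ imgS (linQ cols (linQ imgS g)))))) g &&
    Nat.beq (linQ cols (linQ imgB g)) (linQ imgB (linQ imgB (linQ cols g))) &&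
    Nat.beq ((fun w => linQ cols (linQ imgS (linQ imgS (linQ imgS (linQ imgS w)))))
      ((fun w => linQ cols (linQ imgS (linQ imgS (linQ imgS (linQ imgS w)))))
        ((fun w => linQ cols (linQ imgS (linQ imgS (linQ imgS (linQ imgS w)))))
          ((fun w => linQ cols (linQ imgS (linQ imgS (linQ imgS (linQ imgS w))))) g)))) g

/-- The search for the involution. -/
def searchX : Bool :=
  allBelow (fun a1 => !(Nat.beq (linQ imgB a1) a1 && !Nat.beq a1 0 && Nat.beq (quad a1) 0) ||
    allBelow (fun a4 => !(Nat.beq (linQ imgB a4) a4 && Nat.beq (quad a4) 0 && Nat.beq (bform a1 a4) 1) ||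
      allBelow (fun a2 => !(Nat.beq (quad a2) 0 && Nat.beq (bform a1 a2) 0 && Nat.beq (bform a2 a4) 0) ||
        allBelow (fun a5 => !(Nat.beq (quad a5) 0 && Nat.beq (bform a1 a5) 0 && Nat.beq (bform a4 a5) 0 &&
            Nat.beq (bform a2 a5) 1 && relX (colsX a1 a4 a2 a5)) ||
          (colsX a1 a4 a2 a5 == imgX 0 || colsX a1 a4 a2 a5 == imgX 1 || colsX a1 a4 a2 a5 == imgX 2))
          64) 64) 64) 64

theorem searchX_ok : searchX = true := by decide +kernel

theorem searchX_spec {a1 a4 a2 a5 : ℕ} (h1 : a1 < 64) (h4 : a4 < 64) (h2 : a2 < 64) (h5 : a5 < 64)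
    (f1 : linQ imgB a1 = a1) (n1 : a1 ≠ 0) (f4 : linQ imgB a4 = a4) (q1 : quad a1 = 0) (q4 : quad a4 = 0)
    (q2 : quad a2 = 0) (q5 : quad a5 = 0) (b14 : bform a1 a4 = 1) (b12 : bform a1 a2 = 0)
    (b24 : bform a2 a4 = 0) (b15 : bform a1 a5 = 0) (b45 : bform a4 a5 = 0) (b25 : bform a2 a5 = 1)
    (hrel : relX (colsX a1 a4 a2 a5) = true) :
    ∃ T < 3, colsX a1 a4 a2 a5 = imgX T := by
  have e1 : ∀ a b : ℕ, a = b → Nat.beq a b = true := fun a b h => Nat.beq_eq.symm ▸ h
  have h := allBelow_spec _ _ searchX_ok a1 h1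
  simp only [e1 _ _ f1, e1 _ _ q1, show Nat.beq a1 0 = false from Bool.eq_false_iff.2 fun h => n1 (Nat.eq_of_beq_eq_true h),
    Bool.not_true, Bool.not_false, Bool.and_self, Bool.false_or] at h
  have h := allBelow_spec _ _ h a4 h4
  simp only [e1 _ _ f4, e1 _ _ q4, e1 _ _ b14, Bool.not_true, Bool.and_self, Bool.false_or] at h
  have h := allBelow_spec _ _ h a2 h2
  simp only [e1 _ _ q2, e1 _ _ b12, e1 _ _ b24, Bool.not_true, Bool.and_self, Bool.false_or] at h
  have h := allBelow_spec _ _ h a5 h5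
  simp only [e1 _ _ q5, e1 _ _ b15, e1 _ _ b45, e1 _ _ b25, hrel, Bool.not_true, Bool.and_self, Bool.false_or,
    Bool.or_eq_true, beq_iff_eq] at h
  rcases h with (h | h) | h
  exacts [⟨0, by norm_num, h⟩, ⟨1, by norm_num, h⟩, ⟨2, by norm_num, h⟩]

theorem and63_lt (a : ℕ) : a &&& 63 < 64 := lt_of_le_of_lt Nat.and_le_right (by norm_num)

theorem quad_of_sq : ∀ a < 128, qmul a a = 0 → quad (a &&& 63) = 0 := by decide +kernel

theorem bform_of_comm : ∀ a < 128, ∀ b < 128,
    (qmul a b = qmul b a → bform (a &&& 63) (b &&& 63) = 0) ∧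
    (qmul a b ≠ qmul b a → bform (a &&& 63) (b &&& 63) = 1) := by decide +kernel

/-- The signs of the images of the involution can be removed. -/
theorem fix_signs : ∀ T < 3, ∀ c < 64, ∃ q < 128, ∀ i < 6,
    qmul (qmul q ((imgX T).getD i 0 ||| (bif c.testBit i then 64 else 0))) (qinv q) = (imgX T).getD i 0 := by
  decide +kernel

theorem inner_id : ∀ n < 128,
    (∀ g ∈ [1, 2, 4, 8, 16, 32], qmul (qmul n g) (qinv n) = g) → n = 0 ∨ n = 64 := by decide +kernel

end Cfsg.Agent.HeCent
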