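import Cfsg.Agent.Lib.HeUniq.Cent.Main
import Cfsg.Prelude.Def_MonsterType

/-!
A group with an involution centraliser of Held type, with twenty-nine conjugates of the involution in the
extraspecial subgroup, has the centraliser of a transvection; no order is needed.
-/

set_option autoImplicit false
set_option maxHeartbeats 400000

namespace Cfsg.Agent.HeCent

open Subgroup

universe u

/-- Few exceptional involutions leave few conjugates in the centraliser. -/
theorem ncard_conj_le {G : Type u} [Group G] [Finite G] {t : G} {k : ℕ}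
    (S : Sys ↥(centralizer ({t} : Set G)) k) (ht2 : t * t = 1) (ht1 : t ≠ 1)
    (hz : ((S.io 64 : _) : G) = t) {exc : List ℕ}
    (hroot : ∀ u : ↥(centralizer ({t} : Set G)), u * u = 1 → u ≠ 1 → u ≠ S.io 64 →
      {g | g * g = u}.ncard ≤ {g | g * g = S.io 64 ∧ g * u = u * g}.ncard ∧
      ((∀ e ∈ exc, u ≠ S.phi e) → {g | g * g = u}.ncard < {g | g * g = S.io 64 ∧ g * u = u * g}.ncard)) :
    {x : ↥(centralizer ({t} : Set G)) | IsConj t (x : G)}.ncard ≤ exc.length + 1 := by
  classical
  refine le_trans (Set.ncard_le_ncard (t := ↑((S.io 64 :: exc.map S.phi).toFinset)) ?_ (Finset.finite_toSet _)) ?_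
  · intro x hx
    simp only [Finset.mem_coe, List.mem_toFinset, List.mem_cons, List.mem_map]
    by_cases hxt : (x : G) = t
    · exact Or.inl (Subtype.ext (hxt.trans hz.symm))
    · obtain ⟨g, hg⟩ := isConj_iff.1 (IsConj.symm hx)
      obtain ⟨e, he, hxe⟩ := fused_exceptional S ht2 ht1 hz hroot x hxt hg
      exact Or.inr ⟨e, he, hxe.symm⟩
  · rw [Set.ncard_coe_finset]
    refine (List.toFinset_card_le _).trans ?_
    simp

/-- **The centraliser of an involution of Held type.** -/
theorem cent_iso_setting {G : Type u} [Group G] [Finite G] (t : G)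
    (Q : Subgroup (centralizer ({t} : Set G))) [Q.Normal] (hset : Cfsg.IsExtraspecialCentralizerSetting t Q 3)
    (h2c : centralizer (Q : Set (centralizer ({t} : Set G))) ≤ Q)
    (e : (centralizer ({t} : Set G)) ⧸ Q ≃* Matrix.SpecialLinearGroup (Fin 3) (ZMod 2))
    (h29 : 15 < {x : ↥(centralizer ({t} : Set G)) | x ∈ Q ∧ IsConj t (x : G)}.ncard)
    (s : L5) (hs : (s : Matrix (Fin 5) (Fin 5) (ZMod 2)) = Matrix.transvection 0 4 1) :
    Nonempty (↥(centralizer ({t} : Set G)) ≃* ↥(centralizer ({s} : Set L5))) := by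
  obtain ⟨ht, -, hQ, hcard, -⟩ := hset
  replace hcard : Nat.card Q = 2 ^ 7 := hcard
  set T : ↥(centralizer ({t} : Set G)) := ⟨t, mem_centralizer_singleton_iff.2 rfl⟩ with hT
  have ht2 : t * t = 1 := by rw [← pow_two, ← ht, pow_orderOf_eq_one]
  have ht1 : t ≠ 1 := fun h => by rw [h, orderOf_one] at ht; exact absurd ht (by norm_num)
  have hTc : ∀ g : ↥(centralizer ({t} : Set G)), g * T = T * g := fun g => Subtype.ext (mem_centralizer_singleton_iff.1 g.2)
  have hTQ : T ∈ Q := h2c (mem_centralizer_iff.2 fun q _ => hTc q)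
  obtain ⟨z, hzS, hzc⟩ := XNonSplit.exists_setup hQ
  have hcent : ∀ c : Q, c ∈ center Q → c = 1 ∨ c = z := by
    intro c hc
    obtain ⟨⟨-, -, -⟩, h2⟩ := hQ
    obtain ⟨w, -, huniq⟩ := (Nat.card_eq_two_iff' (1 : center Q)).1 h2
    by_cases h1 : (⟨c, hc⟩ : center Q) = 1
    · exact Or.inl (congrArg Subtype.val h1)
    · refine Or.inr (congrArg Subtype.val ((huniq _ h1).trans (huniq ⟨z, hzc⟩ ?_).symm))
      exact fun h => hzS.one_ne (congrArg Subtype.val h)
  have hzT : (z : ↥(centralizer ({t} : Set G))) = T := by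
    rcases hcent ⟨T, hTQ⟩ (mem_center_iff.2 fun q => Subtype.ext (hTc q)) with h | h
    · exact absurd (congrArg Subtype.val (congrArg Subtype.val h)) ht1
    · exact (congrArg Subtype.val h).symm
  have hX : Ext Q T := {
    zz := Subtype.ext ht2
    ne := fun h => ht1 (congrArg Subtype.val h)
    central := hTc
    mem := hTQ
    comm := fun a ha b hb => by
      rcases hzS.comm ⟨a, ha⟩ ⟨b, hb⟩ with h | h
      · exact Or.inl (congrArg Subtype.val h)
      · exact Or.inr (by rw [← hzT]; exact congrArg Subtype.val h)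
    square := fun a ha => by
      rcases hzS.square ⟨a, ha⟩ with h | h
      · exact Or.inl (congrArg Subtype.val h)
      · exact Or.inr (by rw [← hzT]; exact congrArg Subtype.val h)
    card := by rw [hcard]; norm_num
    center := fun a ha hab => by
      rcases hcent ⟨a, ha⟩ (mem_center_iff.2 fun q => Subtype.ext (hab q q.2).symm) with h | h
      · exact Or.inl (congrArg Subtype.val h)
      · exact Or.inr (by rw [← hzT]; exact congrArg Subtype.val h)
    faithful := fun g hg => h2c (mem_centralizer_iff.2 fun a ha => (hg a ha).symm)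
    normal := fun g a ha => Normal.conj_mem inferInstance a ha g }
  set π : ↥(centralizer ({t} : Set G)) →* L := e.toMonoidHom.comp (QuotientGroup.mk' Q) with hπdef
  have hπ : Function.Surjective π := e.surjective.comp (QuotientGroup.mk'_surjective Q)
  have hker : ∀ g, π g = 1 ↔ g ∈ Q := fun g => by
    show e (QuotientGroup.mk g) = 1 ↔ g ∈ Q
    rw [MulEquiv.map_eq_one_iff, QuotientGroup.eq_one_iff]
  have hC' : Nat.card ↥(centralizer ({t} : Set G)) = 21504 := by
    rw [card_eq_card_quotient_mul_card_subgroup Q, Nat.card_congr e.toEquiv, MonsterT.Seven.sl32_facts.2, hcard]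
    norm_num
  obtain ⟨k, S, hS⟩ := exists_sys hX π hπ hker hC'
  have hz : ((S.io 64 : _) : G) = t := by rw [hS]
  have key : ∀ exc : List ℕ, exc.length ≤ 14 →
      (∀ u : ↥(centralizer ({t} : Set G)), u * u = 1 → u ≠ 1 → u ≠ S.io 64 →
      {g | g * g = u}.ncard ≤ {g | g * g = S.io 64 ∧ g * u = u * g}.ncard ∧
      ((∀ e ∈ exc, u ≠ S.phi e) → {g | g * g = u}.ncard < {g | g * g = S.io 64 ∧ g * u = u * g}.ncard)) →
      False := by
    intro exc hlen hroot
    have h1 := ncard_conj_le S ht2 ht1 hz hroot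
    have h2 : {x : ↥(centralizer ({t} : Set G)) | x ∈ Q ∧ IsConj t (x : G)}.ncard ≤
        {x : ↥(centralizer ({t} : Set G)) | IsConj t (x : G)}.ncard :=
      Set.ncard_le_ncard (fun x hx => hx.2) (Set.toFinite _)
    omega
  have hk : k = 0 := by
    have hk6 := S.lt
    interval_cases k
    · rfl
    all_goals exfalso
    · exact key (excT1.map Prod.fst) (by rw [List.length_map, exc1.2.2.1])
        fun u h1 h2 h3 => S.roots_lt sqTOK1 scan1 allOK1 h1 h2 h3
    · exact key (excT2.map Prod.fst) (by rw [List.length_map, exc2.2.2.1])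
        fun u h1 h2 h3 => S.roots_lt sqTOK2 scan2 allOK2 h1 h2 h3
    · exact key [] (by simp) fun u h1 h2 h3 => S.roots_lt sqTOK3 scan3 allOK3 h1 h2 h3
    · exact key [] (by simp) fun u h1 h2 h3 => S.roots_lt sqTOK4 scan4 allOK4 h1 h2 h3
    · exact key [] (by simp) fun u h1 h2 h3 => S.roots_lt sqTOK5 scan5 allOK5 h1 h2 h3
  subst hk
  obtain ⟨T'⟩ := model_sys hs
  obtain ⟨φ, -⟩ := S.iso T'
  exact ⟨φ⟩

end Cfsg.Agent.HeCent
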