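import Cfsg.Agent.Lib.HeUniq.Cent.Orbit
import Cfsg.Agent.Lib.HeUniq.Cent.Search
import Cfsg.Agent.Lib.HeUniq.Cent.Table
import Mathlib.LinearAlgebra.Matrix.SpecialLinearGroup

/-!
A group of order 21504 with an extraspecial normal subgroup of order 128 containing its centraliser and quotient
SL(3,2) is described by one of the six tables.
-/

set_option autoImplicit false
set_option maxHeartbeats 800000

namespace Cfsg.Agent.HeCent

/-- The quotient. -/
abbrev L := Matrix.SpecialLinearGroup (Fin 3) (ZMod 2)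

/-- The element of order seven downstairs. -/
def sL : L := ⟨!![0, 0, 1; 1, 0, 1; 0, 1, 0], by decide +kernel⟩

/-- The element of order three downstairs. -/
def bL : L := ⟨!![1, 0, 0; 0, 0, 1; 0, 1, 1], by decide +kernel⟩

/-- The involution downstairs. -/
def xL : L := ⟨!![1, 0, 0; 0, 0, 1; 0, 1, 0], by decide +kernel⟩

theorem relsL : sL ^ 7 = 1 ∧ sL ≠ 1 ∧ bL ^ 3 = 1 ∧ bL * sL * bL⁻¹ = sL ^ 2 ∧ xL * bL = bL * bL * xL ∧
    xL * xL = 1 ∧ xL * sL * xL * sL * xL * sL = 1 ∧
    (xL * sL * sL * sL * sL) * (xL * sL * sL * sL * sL) =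
      (xL * sL * xL * sL * sL * sL * sL) * xL * (xL * sL * xL * sL * sL * sL * sL)⁻¹ := by
  refine ⟨?_, ?_, ?_, ?_, ?_, ?_, ?_, ?_⟩
  · decide +kernel
  · decide +kernel
  · decide +kernel
  · rw [mul_inv_eq_iff_eq_mul]; decide +kernel
  · decide +kernel
  · decide +kernel
  · decide +kernel
  · rw [eq_mul_inv_iff_mul_eq]; decide +kernel

section

variable {C : Type*} [Group C] {Q : Subgroup C} {z : C} (hX : Ext Q z) (F : Frame Q)

include hX

/-- Conjugation by an element with known action. -/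
theorem twist_pow {t : C} {f : ℕ → ℕ} (hf : ∀ a < 128, t * F.io z a * t⁻¹ = F.io z (f a))
    (hlt : ∀ a < 128, f a < 128) {n : ℕ} (hn : n < 128) :
    ∀ j : ℕ, ∃ m < 128, m = Nat.rec 0 (fun _ r => qmul n (f r)) j ∧ (F.io z n * t) ^ j = F.io z m * t ^ j := by
  intro j
  induction j with
  | zero => exact ⟨0, by norm_num, rfl, by simp [F.io_zero hX]⟩
  | succ j ih =>
    obtain ⟨m, hm, hmj, hj⟩ := ih
    refine ⟨qmul n (f m), qmul_lt hn (hlt m hm), by rw [hmj], ?_⟩
    rw [pow_succ', hj, ← F.io_mul hX hn (hlt m hm), ← hf m hm, pow_succ']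
    group

/-- The action of an element as a list. -/
theorem exists_imgs (g : C) : ∃ imgs : List ℕ, (∀ i < 6, imgs.getD i 0 < 128) ∧
    ∀ a < 128, g * F.io z a * g⁻¹ = F.io z (autQ imgs a) := by
  have h := fun i => F.io_surj hX (hX.normal g _ (F.io_mem hX (2 ^ i)))
  choose n hn he using h
  refine ⟨[n 0, n 1, n 2, n 3, n 4, n 5], ?_, fun a ha => F.conj_io hX g ?_ ?_ ha⟩
  all_goals
    intro i hi
    interval_cases i <;> simp [hn, he]

/-- An element of the subgroup is determined by its action up to the centre. -/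
theorem inner_determined {n m : ℕ} (hn : n < 128) (hm : m < 128)
    (h : ∀ a < 128, F.io z n * F.io z a * (F.io z n)⁻¹ = F.io z m * F.io z a * (F.io z m)⁻¹) :
    n = m ∨ n = m ^^^ 64 := by
  have hb : ∀ g ∈ Q, (F.io z m)⁻¹ * F.io z n * g = g * ((F.io z m)⁻¹ * F.io z n) := by
    intro g hg
    obtain ⟨a, ha, rfl⟩ := F.io_surj hX hg
    calc (F.io z m)⁻¹ * F.io z n * F.io z a
        = (F.io z m)⁻¹ * (F.io z n * F.io z a * (F.io z n)⁻¹) * F.io z n := by group
      _ = _ := by rw [h a ha]; group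
  have h64 : m ^^^ 64 < 128 := Nat.xor_lt_two_pow (n := 7) hm (by norm_num)
  rcases hX.center _ (mul_mem (inv_mem (F.io_mem hX m)) (F.io_mem hX n)) hb with e | e
  · exact Or.inl (F.io_inj hX hn hm (inv_mul_eq_one.1 e).symm)
  · refine Or.inr (F.io_inj hX hn h64 ?_)
    have hq : ∀ m < 128, qmul m 64 = m ^^^ 64 := by decide +kernel
    rw [← hq m hm, ← F.io_mul hX hm (by norm_num), F.io_z hX]
    exact eq_mul_of_inv_mul_eq e

end

section

variable {C : Type*} [Group C] [Finite C] {Q : Subgroup C} {z : C} (hX : Ext Q z) (π : C →* L)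

include hX

theorem pow_128 {q : C} (hq : q ∈ Q) : q ^ 128 = 1 := by
  have := pow_card_eq_one' (x := (⟨q, hq⟩ : Q))
  rw [hX.card] at this
  exact congrArg Subtype.val this

theorem pow_four {q : C} (hq : q ∈ Q) : q ^ 4 = 1 := by
  rw [show 4 = 2 * 2 from rfl, pow_mul, pow_two, pow_two, hX.sq_eq hq, hX.zp_xor, Bool.xor_self]; rfl

variable (hπ : Function.Surjective π) (hker : ∀ g, π g = 1 ↔ g ∈ Q)

include hπ hker

/-- The element of order seven with coordinates. -/
theorem exists_s : ∃ (s : C) (F : Frame Q), s ^ 7 = 1 ∧ π s = sL ∧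
    ∀ a < 128, s * F.io z a * s⁻¹ = F.io z (autQ imgS a) := by
  obtain ⟨g, hg⟩ := hπ sL
  have h7 : g ^ 7 ∈ Q := (hker _).1 (by rw [map_pow, hg, relsL.1])
  have hs7 : (g ^ 512) ^ 7 = 1 := by
    rw [← pow_mul, show 512 * 7 = 7 * 128 * 4 by norm_num, pow_mul, pow_mul, pow_128 hX h7, one_pow]
  have hπs : π (g ^ 512) = sL := by
    rw [map_pow, hg, show 512 = 7 * 73 + 1 from rfl, pow_add, pow_mul, relsL.1, one_pow, one_mul, pow_one]
  obtain ⟨F, hF⟩ := exists_frame hX hs7 (fun h => relsL.2.1 (by rw [← hπs, h, map_one]))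
  exact ⟨_, F, hs7, hπs, hF⟩

/-- The element of order three, with the standard action after an automorphism downstairs. -/
theorem exists_b {s : C} (F : Frame Q) (hs7 : s ^ 7 = 1) (hπs : π s = sL)
    (hF : ∀ a < 128, s * F.io z a * s⁻¹ = F.io z (autQ imgS a)) :
    ∃ (b : C) (π' : C →* L), Function.Surjective π' ∧ (∀ g, π' g = 1 ↔ g ∈ Q) ∧ π' s = sL ∧ π' b = bL ∧
      ∀ a < 128, b * F.io z a * b⁻¹ = F.io z (autQ imgB a) := by
  obtain ⟨g, hg⟩ := hπ bL
  have hd : g * s * g⁻¹ * (s ^ 2)⁻¹ ∈ Q := (hker _).1 (by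
    rw [map_mul, map_mul, map_mul, map_inv, map_inv, map_pow, hg, hπs, relsL.2.2.2.1, mul_inv_cancel])
  obtain ⟨n, hn, hne⟩ := F.io_surj hX hd
  have hS2 : ∀ a < 128, s ^ 2 * F.io z a * (s ^ 2)⁻¹ = F.io z (autQ imgS (autQ imgS a)) := by
    intro a ha
    rw [← hF _ (autQ_lt _ _), ← hF a ha, pow_two]; group
  obtain ⟨m, hm, hmr, hm7⟩ := twist_pow hX F hS2 (fun a _ => autQ_lt _ _) hn 7
  have hy : F.io z n * s ^ 2 = g * s * g⁻¹ := by rw [hne]; group
  have hnorm : normN n 7 = 0 := by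
    refine (F.io_inj hX ?_ (by norm_num) ?_)
    · exact qmul_lt hn (autQ_lt _ _)
    · have e : normN n 7 = m := by rw [hmr]; rfl
      rw [e, F.io_zero hX]
      have : (F.io z n * s ^ 2) ^ 7 = 1 := by rw [hy, conj_pow, hs7, mul_one, mul_inv_cancel]
      rw [hm7, ← pow_mul, show 2 * 7 = 7 * 2 from rfl, pow_mul, hs7, one_pow, mul_one] at this
      exact this
  obtain ⟨a, ha, han⟩ := conj_solve n hn hnorm
  set h := (F.io z a)⁻¹ * g with hh
  have hconj : h * s * h⁻¹ = s ^ 2 := by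
    have e : F.io z a * s ^ 2 * (F.io z a)⁻¹ = g * s * g⁻¹ := by
      rw [← hy, ← han]
      have hq : ∀ a < 128, qinv a < 128 ∧ qmul a (qinv a) = 0 := by decide +kernel
      have hlt := autQ_lt imgS (autQ imgS a)
      obtain ⟨h1, h2⟩ := hq _ hlt
      rw [← F.io_mul hX ha h1, show F.io z (qinv (autQ imgS (autQ imgS a))) =
        (F.io z (autQ imgS (autQ imgS a)))⁻¹ from eq_inv_of_mul_eq_one_right (by
          rw [F.io_mul hX hlt h1, h2, F.io_zero hX]), ← hS2 a ha]
      group
    rw [hh, show (F.io z a)⁻¹ * g * s * ((F.io z a)⁻¹ * g)⁻¹ =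
      (F.io z a)⁻¹ * (g * s * g⁻¹) * F.io z a by group, ← e]
    group
  have hπh : π h = bL := by
    rw [hh, map_mul, map_inv, (hker _).2 (F.io_mem hX a), inv_one, one_mul, hg]
  have hconjn : ∀ j : ℕ, h * s ^ j * h⁻¹ = s ^ (2 * j) := fun j => by
    rw [pow_mul, ← hconj, conj_pow]
  set b := h ^ 4 with hb
  have hπb : π b = bL := by
    rw [hb, map_pow, hπh, show 4 = 3 + 1 from rfl, pow_add, relsL.2.2.1, one_mul, pow_one]
  have hb3 : b ^ 3 = 1 := by
    rw [hb, ← pow_mul, show 4 * 3 = 3 * 4 from rfl, pow_mul]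
    exact pow_four hX ((hker _).1 (by rw [map_pow, hπh, relsL.2.2.1]))
  have hbs : b * s * b⁻¹ = s ^ 2 := by
    have e2 : ∀ j : ℕ, h ^ j * s * (h ^ j)⁻¹ = s ^ (2 ^ j) := by
      intro j
      induction j with
      | zero => simp
      | succ j ih =>
        rw [pow_succ', show h * h ^ j * s * (h * h ^ j)⁻¹ = h * (h ^ j * s * (h ^ j)⁻¹) * h⁻¹ by group, ih,
          hconjn, pow_succ' 2 j]
    rw [hb, e2 4, pow_eq_pow_mod _ hs7]; rfl
  obtain ⟨imgs, hlt, himg⟩ := exists_imgs hX F b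
  set α := autQ imgs with hα
  have hαl : ∀ c, α c < 128 := fun c => autQ_lt _ _
  have hcomm : ∀ c < 128, α (autQ imgS c) = sTwo (α c) := by
    intro c hc
    refine F.io_inj hX (hαl _) (autQ_lt _ _) ?_
    rw [hα, ← himg _ (autQ_lt _ _), ← hF c hc, sTwo, ← hS2 _ (autQ_lt _ _), ← himg c hc,
      show b * (s * F.io z c * s⁻¹) * b⁻¹ = b * s * b⁻¹ * (b * F.io z c * b⁻¹) * (b * s * b⁻¹)⁻¹ by group, hbs]
  have hmul : ∀ c < 128, ∀ d < 128, α (qmul c d) = qmul (α c) (α d) := by
    intro c hc d hd'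
    refine F.io_inj hX (hαl _) (qmul_lt (hαl _) (hαl _)) ?_
    rw [hα, ← himg _ (qmul_lt hc hd'), ← F.io_mul hX hc hd', ← F.io_mul hX (autQ_lt _ _) (autQ_lt _ _),
      ← himg c hc, ← himg d hd']
    group
  have hinjα : ∀ c < 128, ∀ d < 128, α c = α d → c = d := by
    intro c hc d hd' e
    refine F.io_inj hX hc hd' ?_
    have e' : F.io z (α c) = F.io z (α d) := by rw [e]
    rw [hα, ← himg c hc, ← himg d hd'] at e'
    simpa using e'
  have h3 : ∀ c < 128, α (α (α c)) = c := by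
    intro c hc
    refine F.io_inj hX (hαl _) hc ?_
    rw [hα, ← himg _ (autQ_lt _ _), ← himg _ (autQ_lt _ _), ← himg c hc,
      show b * (b * (b * F.io z c * b⁻¹) * b⁻¹) * b⁻¹ = b * b * b * F.io z c * (b * b * b)⁻¹ by group, show b * b * b = 1 by rw [← hb3, pow_three, mul_assoc]]
    simp
  have hα64 : α 64 = 64 := by
    refine F.io_inj hX (hαl _) (by norm_num) ?_
    rw [hα, ← himg 64 (by norm_num), F.io_z hX, hX.central b, mul_inv_cancel_right]
  have hα0 : α 0 = 0 := by
    refine F.io_inj hX (hαl _) (by norm_num) ?_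
    rw [hα, ← himg 0 (by norm_num), F.io_zero hX, mul_one, mul_inv_cancel]
  set a₁ := α 1 with ha₁
  set a₄ := α 8 with ha₄
  have i2 : α 2 = sTwo a₁ := hcomm 1 (by norm_num)
  have i4 : α 4 = sTwo (sTwo a₁) := by rw [← i2]; exact hcomm 2 (by norm_num)
  have i24 : α 24 = sTwo a₄ := hcomm 8 (by norm_num)
  have i16 : α 16 = qmul a₄ (sTwo a₄) := by
    rw [← i24, ← hmul 8 (by norm_num) 24 (by norm_num)]; rfl
  have i32 : α 32 = sTwo (qmul a₄ (sTwo a₄)) := by rw [← i16]; exact hcomm 16 (by norm_num)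
  have hfun : ∀ c < 128, autQ (imgsB a₁ a₄) c = α c := by
    intro c hc
    have hg' : ∀ i < 6, (imgsB a₁ a₄).getD i 0 = α (2 ^ i) := by
      intro i hi
      interval_cases i
      exacts [rfl, i2.symm, i4.symm, rfl, i16.symm, i32.symm]
    refine F.io_inj hX (autQ_lt _ _) (hαl _) ?_
    rw [← F.conj_io hX b (fun i hi => by rw [hg' i hi]; exact hαl _) (fun i hi => ?_) hc, hα, himg c hc]
    rw [hg' i hi]
    exact himg _ (by interval_cases i <;> norm_num)
  have hA : goodA a₁ = true := by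
    have n63 : a₁ &&& 63 ≠ 0 := by
      have key : ∀ a < 128, a &&& 63 = 0 → a = 0 ∨ a = 64 := by decide +kernel
      intro h0
      rcases key _ (hαl 1) h0 with e | e
      · exact absurd (hinjα 1 (by norm_num) 0 (by norm_num) (e.trans hα0.symm)) (by norm_num)
      · exact absurd (hinjα 1 (by norm_num) 64 (by norm_num) (e.trans hα64.symm)) (by norm_num)
    have e : sTwo (sTwo (sTwo a₁)) = qmul a₁ (sTwo a₁) := by
      rw [← i4, ← hcomm 4 (by norm_num), ← i2, ← hmul 1 (by norm_num) 2 (by norm_num)]; rfl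
    simp only [goodA, e, Bool.and_eq_true, Bool.not_eq_true', Nat.beq_eq, and_true]
    exact Bool.eq_false_iff.2 fun h => n63 (Nat.eq_of_beq_eq_true h)
  have hB : goodB a₁ a₄ = true := by
    have e1 : sTwo (sTwo (qmul a₄ (sTwo a₄))) = a₄ := by
      rw [← i32, ← hcomm 32 (by norm_num)]; rfl
    have e2 : qmul a₁ a₄ ≠ qmul a₄ a₁ := by
      rw [← hmul 1 (by norm_num) 8 (by norm_num), ← hmul 8 (by norm_num) 1 (by norm_num)]
      exact fun e => absurd (hinjα _ (by decide) _ (by decide) e) (by decide)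
    have e3 : qmul (sTwo a₁) a₄ = qmul a₄ (sTwo a₁) := by
      rw [← i2, ← hmul 2 (by norm_num) 8 (by norm_num), ← hmul 8 (by norm_num) 2 (by norm_num)]; rfl
    have e4 : qmul (sTwo (sTwo a₁)) a₄ = qmul a₄ (sTwo (sTwo a₁)) := by
      rw [← i4, ← hmul 4 (by norm_num) 8 (by norm_num), ← hmul 8 (by norm_num) 4 (by norm_num)]; rfl
    have e5 : autQ (imgsB a₁ a₄) (autQ (imgsB a₁ a₄) a₁) = 1 := by
      rw [hfun a₁ (hαl _), hfun _ (hαl _)]; exact h3 1 (by norm_num)
    have e6 : autQ (imgsB a₁ a₄) (autQ (imgsB a₁ a₄) a₄) = 8 := by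
      rw [hfun a₄ (hαl _), hfun _ (hαl _)]; exact h3 8 (by norm_num)
    simp only [goodB, e1, e3, e4, e5, e6, Bool.and_eq_true, Bool.not_eq_true', Nat.beq_eq, and_true, true_and]
    exact Bool.eq_false_iff.2 fun h => e2 (Nat.eq_of_beq_eq_true h)
  obtain ⟨j, hj, hjg⟩ := searchB_spec (hαl 1) (hαl 8) hA hB
  have hSj : ∀ (k : ℕ), ∀ c < 128, sPow k c < 128 ∧ s ^ k * F.io z c * (s ^ k)⁻¹ = F.io z (sPow k c) := by
    intro k
    induction k with
    | zero => intro c hc; exact ⟨hc, by simp [sPow]⟩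
    | succ k ih =>
      intro c hc
      obtain ⟨h1, h2⟩ := ih c hc
      refine ⟨autQ_lt _ _, ?_⟩
      rw [sPow, ← hF _ h1, ← h2, pow_succ']; group
  have hinv : (s ^ j)⁻¹ = s ^ (7 - j) := by
    refine inv_eq_of_mul_eq_one_right ?_
    rw [← pow_add, Nat.add_sub_cancel' hj.le, hs7]
  have hact : ∀ i < 6, s ^ j * b * (s ^ j)⁻¹ * F.io z (2 ^ i) * (s ^ j * b * (s ^ j)⁻¹)⁻¹ =
      F.io z (imgB.getD i 0) := by
    intro i hi
    have hp : 2 ^ i < 128 := by interval_cases i <;> norm_num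
    have hmem : 2 ^ i ∈ [1, 2, 4, 8, 16, 32] := by interval_cases i <;> decide
    obtain ⟨h1, h2⟩ := hSj (7 - j) _ hp
    obtain ⟨-, h4⟩ := hSj j _ (hαl (sPow (7 - j) (2 ^ i)))
    have e : autQ imgB (2 ^ i) = imgB.getD i 0 := by interval_cases i <;> rfl
    rw [← e, ← hjg _ hmem, hfun _ h1, ← h4, hα, ← himg _ h1, ← h2, ← hinv]
    group
  set c := sL ^ j with hc
  refine ⟨s ^ j * b * (s ^ j)⁻¹, (MulAut.conj c⁻¹).toMonoidHom.comp π, ?_, ?_, ?_, ?_,
    fun a ha => F.conj_io hX _ (by decide) hact ha⟩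
  · exact (MulAut.conj c⁻¹).surjective.comp hπ
  · intro g'
    rw [← hker g']
    show c⁻¹ * π g' * c⁻¹⁻¹ = 1 ↔ _
    rw [conj_eq_one_iff]
  · show c⁻¹ * π s * c⁻¹⁻¹ = sL
    rw [hπs, hc]; group
  · show c⁻¹ * π (s ^ j * b * (s ^ j)⁻¹) * c⁻¹⁻¹ = bL
    rw [map_mul, map_mul, map_inv, map_pow, hπs, hπb, ← hc]; group

/-- The involution downstairs lifts to an element with a standard action. -/
theorem exists_x {s b : C} (F : Frame Q) (hπs : π s = sL) (hπb : π b = bL)
    (hS : ∀ a < 128, s * F.io z a * s⁻¹ = F.io z (autQ imgS a))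
    (hB : ∀ a < 128, b * F.io z a * b⁻¹ = F.io z (autQ imgB a)) :
    ∃ T < 3, ∃ x : C, π x = xL ∧ ∀ a < 128, x * F.io z a * x⁻¹ = F.io z (autQ (imgX T) a) := by
  obtain ⟨x, hπx⟩ := hπ xL
  obtain ⟨imgs, hlt, himg⟩ := exists_imgs hX F x
  set β := autQ imgs with hβ
  have hβl : ∀ c, β c < 128 := fun c => autQ_lt _ _
  have hconj_low : ∀ g ∈ Q, ∀ c < 128, ∀ d < 128,
      g * F.io z c * g⁻¹ = F.io z d → c &&& 63 = d &&& 63 := by
    intro g hg c hc d hd e
    obtain ⟨n, hn, rfl⟩ := F.io_surj hX hg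
    have key : ∀ n < 128, ∀ c < 128, (qmul n c) &&& 63 = (n &&& 63) ^^^ (c &&& 63) := qmul_low
    have e' : qmul n c = qmul d n := by
      refine F.io_inj hX (qmul_lt hn hc) (qmul_lt hd hn) ?_
      rw [← F.io_mul hX hn hc, ← F.io_mul hX hd hn, ← e]; group
    have := congrArg (fun w => w &&& 63) e'
    simp only [key _ hn _ hc, key _ hd _ hn] at this
    rw [Nat.xor_comm (d &&& 63)] at this
    exact Nat.xor_right_inj.1 this
  have hker' : ∀ g₁ g₂ : C, π g₁ = π g₂ → ∀ c < 128, ∀ d < 128, ∀ e < 128,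
      g₁ * F.io z e * g₁⁻¹ = F.io z c → g₂ * F.io z e * g₂⁻¹ = F.io z d → c &&& 63 = d &&& 63 := by
    intro g₁ g₂ hg c hc d hd e he h1 h2
    refine hconj_low (g₂ * g₁⁻¹) ((hker _).1 (by rw [map_mul, map_inv, hg, mul_inv_cancel])) c hc d hd ?_
    rw [← h1, ← h2]; group
  have hlin : ∀ (imgs : List ℕ) (c : ℕ), c < 128 → autQ imgs c &&& 63 = linQ imgs (c &&& 63) := by
    intro imgs c hc
    rw [autQ_low imgs hc]
    have : ∀ c < 128, ∀ i < 6, (c &&& 63).testBit i = c.testBit i := by decide +kernel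
    simp only [linQ, selL, this c hc _ (by norm_num : 0 < 6), this c hc _ (by norm_num : 1 < 6),
      this c hc _ (by norm_num : 2 < 6), this c hc _ (by norm_num : 3 < 6), this c hc _ (by norm_num : 4 < 6),
      this c hc _ (by norm_num : 5 < 6)]
  have r1 : ∀ c < 128, β (β c) &&& 63 = c &&& 63 := fun c hc =>
    hker' (x * x) 1 (by rw [map_mul, hπx, map_one, relsL.2.2.2.2.2.1]) _ (hβl _) c hc c hc
      (by rw [hβ, ← himg _ (autQ_lt _ _), ← himg c hc]; group) (by simp)
  have r2 : ∀ c < 128, β (autQ imgS (β (autQ imgS (β (autQ imgS c))))) &&& 63 = c &&& 63 := fun c hc =>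
    hker' (x * s * x * s * x * s) 1 (by
        rw [map_one, map_mul, map_mul, map_mul, map_mul, map_mul, hπx, hπs, relsL.2.2.2.2.2.2.1])
      _ (hβl _) c hc c hc (by
        rw [hβ, ← himg _ (autQ_lt _ _), ← hS _ (autQ_lt _ _), ← himg _ (autQ_lt _ _), ← hS _ (autQ_lt _ _),
          ← himg _ (autQ_lt _ _), ← hS c hc]
        group) (by simp)
  have r3 : ∀ c < 128, β (autQ imgB c) &&& 63 = autQ imgB (autQ imgB (β c)) &&& 63 := fun c hc =>
    hker' (x * b) (b * b * x) (by rw [map_mul, map_mul, map_mul, hπx, hπb, relsL.2.2.2.2.1])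
      _ (hβl _) _ (autQ_lt _ _) c hc (by rw [hβ, ← himg _ (autQ_lt _ _), ← hB c hc]; group)
      (by rw [hβ, ← hB _ (autQ_lt _ _), ← hB _ (autQ_lt _ _), ← himg c hc]; group)
  set w4 := fun c => β (autQ imgS (autQ imgS (autQ imgS (autQ imgS c)))) with hw4
  have hw4l : ∀ c, w4 c < 128 := fun c => hβl _
  have hw4c : ∀ c < 128, x * s * s * s * s * F.io z c * (x * s * s * s * s)⁻¹ = F.io z (w4 c) := by
    intro c hc
    rw [hw4, hβ]
    dsimp only
    rw [← himg _ (autQ_lt _ _), ← hS _ (autQ_lt _ _), ← hS _ (autQ_lt _ _), ← hS _ (autQ_lt _ _), ← hS c hc]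
    group
  have r4 : ∀ c < 128, w4 (w4 (w4 (w4 c))) &&& 63 = c &&& 63 := fun c hc =>
    hker' (x * s * s * s * s * (x * s * s * s * s) * (x * s * s * s * s) * (x * s * s * s * s)) 1 (by
        simp only [map_one, map_mul, hπx, hπs]; decide +kernel)
      _ (hw4l _) c hc c hc (by
        rw [← hw4c _ (hw4l _), ← hw4c _ (hw4l _), ← hw4c _ (hw4l _), ← hw4c c hc]; group) (by simp)
  set a₁ := β 1 &&& 63 with ha₁
  set a₂ := β 2 &&& 63 with ha₂
  set a₄ := β 8 &&& 63 with ha₄
  set a₅ := β 16 &&& 63 with ha₅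
  have hBB : ∀ c < 128, autQ imgB (autQ imgB c) &&& 63 = linQ imgB (linQ imgB (c &&& 63)) := by
    intro c hc; rw [hlin _ _ (autQ_lt _ _), hlin _ _ hc]
  have i4 : β 4 &&& 63 = linQ imgB (linQ imgB a₂) := by
    rw [ha₂, ← hBB _ (hβl _), ← r3 2 (by norm_num)]; rfl
  have hmul : ∀ c < 128, ∀ d < 128, β (qmul c d) = qmul (β c) (β d) := by
    intro c hc d hd'
    refine F.io_inj hX (hβl _) (qmul_lt (hβl _) (hβl _)) ?_
    rw [hβ, ← himg _ (qmul_lt hc hd'), ← F.io_mul hX hc hd', ← F.io_mul hX (autQ_lt _ _) (autQ_lt _ _),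
      ← himg c hc, ← himg d hd']
    group
  have i32 : β 32 &&& 63 = a₅ ^^^ linQ imgB (linQ imgB a₅) := by
    rw [ha₅, ← hBB _ (hβl _), ← r3 16 (by norm_num), show (32 : ℕ) = qmul 16 48 from rfl,
      hmul 16 (by norm_num) 48 (by norm_num), qmul_low _ (hβl _) _ (hβl _)]
    rfl
  have hgens : ∀ i < 6, β (2 ^ i) &&& 63 = (colsX a₁ a₄ a₂ a₅).getD i 0 := by
    intro i hi
    interval_cases i
    exacts [rfl, rfl, i4, rfl, rfl, i32]
  have hlinβ : ∀ c < 128, β c &&& 63 = linQ (colsX a₁ a₄ a₂ a₅) (c &&& 63) := by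
    intro c hc
    rw [hβ, hlin _ _ hc]
    have hg : ∀ i < 6, imgs.getD i 0 &&& 63 = (colsX a₁ a₄ a₂ a₅).getD i 0 &&& 63 := by
      intro i hi
      have hp : 2 ^ i < 128 := by interval_cases i <;> norm_num
      have e : linQ imgs (2 ^ i &&& 63) = imgs.getD i 0 &&& 63 := by
        interval_cases i <;> simp [linQ, selL, Nat.testBit, Nat.shiftRight_eq_div_pow]
      rw [← e, ← hlin _ _ hp, ← hgens i hi, Nat.land_assoc]
      rfl
    simp only [linQ, selL, hg _ (by norm_num : 0 < 6), hg _ (by norm_num : 1 < 6), hg _ (by norm_num : 2 < 6),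
      hg _ (by norm_num : 3 < 6), hg _ (by norm_num : 4 < 6), hg _ (by norm_num : 5 < 6)]
  have hβ0 : β 0 = 0 := by
    refine F.io_inj hX (hβl _) (by norm_num) ?_
    rw [hβ, ← himg 0 (by norm_num), F.io_zero hX, mul_one, mul_inv_cancel]
  have hsq : ∀ c < 128, qmul c c = 0 → quad (β c &&& 63) = 0 := by
    intro c hc e
    refine quad_of_sq _ (hβl _) ?_
    rw [← hmul c hc c hc, e, hβ0]
  have hβinj : ∀ c < 128, ∀ d < 128, β c = β d → c = d := by
    intro c hc d hd' e
    refine F.io_inj hX hc hd' ?_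
    have e' : F.io z (β c) = F.io z (β d) := by rw [e]
    rw [hβ, ← himg c hc, ← himg d hd'] at e'
    simpa using e'
  have hb0 : ∀ c < 128, ∀ d < 128, qmul c d = qmul d c → bform (β c &&& 63) (β d &&& 63) = 0 :=
    fun c hc d hd' e => (bform_of_comm _ (hβl _) _ (hβl _)).1 (by rw [← hmul c hc d hd', ← hmul d hd' c hc, e])
  have hb1 : ∀ c < 128, ∀ d < 128, qmul c d ≠ qmul d c → bform (β c &&& 63) (β d &&& 63) = 1 :=
    fun c hc d hd' e => (bform_of_comm _ (hβl _) _ (hβl _)).2 (by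
      rw [← hmul c hc d hd', ← hmul d hd' c hc]
      exact fun e' => e (hβinj _ (qmul_lt hc hd') _ (qmul_lt hd' hc) e'))
  have hn1 : a₁ ≠ 0 := by
    have key : ∀ a < 128, a &&& 63 = 0 → a = 0 ∨ a = 64 := by decide +kernel
    intro h0
    have hβ64 : β 64 = 64 := by
      refine F.io_inj hX (hβl _) (by norm_num) ?_
      rw [hβ, ← himg 64 (by norm_num), F.io_z hX, hX.central x, mul_inv_cancel_right]
    rcases key _ (hβl 1) h0 with e | e
    · exact absurd (hβinj 1 (by norm_num) 0 (by norm_num) (e.trans hβ0.symm)) (by norm_num)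
    · exact absurd (hβinj 1 (by norm_num) 64 (by norm_num) (e.trans hβ64.symm)) (by norm_num)
  have hb3L : ∀ a < 64, linQ imgB (linQ imgB a) = a → linQ imgB a = a := by decide +kernel
  have f1 : linQ imgB a₁ = a₁ := hb3L _ (and63_lt _) (by
    rw [ha₁, ← hBB _ (hβl _), ← r3 1 (by norm_num)]; rfl)
  have f4 : linQ imgB a₄ = a₄ := hb3L _ (and63_lt _) (by
    rw [ha₄, ← hBB _ (hβl _), ← r3 8 (by norm_num)]; rfl)
  have hrel : relX (colsX a₁ a₄ a₂ a₅) = true := by
    simp only [relX, List.all_eq_true, Bool.and_eq_true, Nat.beq_eq]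
    intro g hg
    have hg' : g < 64 := by fin_cases hg <;> norm_num
    have hg7 : g < 128 := by omega
    have hgm : g &&& 63 = g := by fin_cases hg <;> rfl
    have e1 := r1 g hg7
    rw [hlinβ _ (hβl _), hlinβ _ hg7, hgm] at e1
    have e2 := r2 g hg7
    rw [hlinβ _ (autQ_lt _ _), hlin _ _ (hβl _), hlinβ _ (autQ_lt _ _), hlin _ _ (hβl _), hlinβ _ (autQ_lt _ _),
      hlin _ _ hg7, hgm] at e2
    have e3 := r3 g hg7
    rw [hlinβ _ (autQ_lt _ _), hlin _ _ hg7, hBB _ (hβl _), hlinβ _ hg7, hgm] at e3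
    have e4 := r4 g hg7
    have hw : ∀ c < 128, w4 c &&& 63 = linQ (colsX a₁ a₄ a₂ a₅)
        (linQ imgS (linQ imgS (linQ imgS (linQ imgS (c &&& 63))))) := by
      intro c hc
      rw [hw4]; dsimp only
      rw [hlinβ _ (autQ_lt _ _), hlin _ _ (autQ_lt _ _), hlin _ _ (autQ_lt _ _), hlin _ _ (autQ_lt _ _),
        hlin _ _ hc]
    rw [hw _ (hw4l _), hw _ (hw4l _), hw _ (hw4l _), hw _ hg7, hgm] at e4
    exact ⟨⟨⟨e1, e2⟩, e3⟩, e4⟩
  obtain ⟨T, hT, hcols⟩ := searchX_spec (and63_lt _) (and63_lt _) (and63_lt _) (and63_lt _) f1 hn1 f4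
    (hsq 1 (by norm_num) (by decide)) (hsq 8 (by norm_num) (by decide)) (hsq 2 (by norm_num) (by decide))
    (hsq 16 (by norm_num) (by decide)) (hb1 1 (by norm_num) 8 (by norm_num) (by decide))
    (hb0 1 (by norm_num) 2 (by norm_num) (by decide)) (hb0 2 (by norm_num) 8 (by norm_num) (by decide))
    (hb0 1 (by norm_num) 16 (by norm_num) (by decide)) (hb0 8 (by norm_num) 16 (by norm_num) (by decide))
    (hb1 2 (by norm_num) 16 (by norm_num) (by decide)) hrel
  set c : ℕ := (bif (β 1).testBit 6 then 1 else 0) + (bif (β 2).testBit 6 then 2 else 0) +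
    (bif (β 4).testBit 6 then 4 else 0) + (bif (β 8).testBit 6 then 8 else 0) +
    (bif (β 16).testBit 6 then 16 else 0) + (bif (β 32).testBit 6 then 32 else 0) with hc
  obtain ⟨hc64, hcb⟩ : c < 64 ∧ ∀ i < 6, c.testBit i = (β (2 ^ i)).testBit 6 := by
    rw [hc]
    show _ ∧ ∀ i < 6, _
    generalize h0 : (β 1).testBit 6 = b0
    generalize h1 : (β 2).testBit 6 = b1
    generalize h2 : (β 4).testBit 6 = b2
    generalize h3 : (β 8).testBit 6 = b3
    generalize h4 : (β 16).testBit 6 = b4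
    generalize h5 : (β 32).testBit 6 = b5
    have key : ∀ b0 b1 b2 b3 b4 b5 : Bool,
        ((bif b0 then 1 else 0) + (bif b1 then 2 else 0) + (bif b2 then 4 else 0) + (bif b3 then 8 else 0) +
          (bif b4 then 16 else 0) + (bif b5 then 32 else 0) : ℕ) < 64 ∧
        ∀ i : Fin 6, Nat.testBit ((bif b0 then 1 else 0) + (bif b1 then 2 else 0) + (bif b2 then 4 else 0) +
          (bif b3 then 8 else 0) + (bif b4 then 16 else 0) + (bif b5 then 32 else 0)) i =
          [b0, b1, b2, b3, b4, b5].getD i false := by decide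
    refine ⟨(key b0 b1 b2 b3 b4 b5).1, fun i hi => ?_⟩
    rw [(key b0 b1 b2 b3 b4 b5).2 ⟨i, hi⟩]
    interval_cases i <;> simp [h0, h1, h2, h3, h4, h5]
  obtain ⟨q, hq, hqs⟩ := fix_signs T hT c hc64
  have hsplit : ∀ a < 128, a = (a &&& 63) ||| (bif a.testBit 6 then 64 else 0) := by decide +kernel
  refine ⟨T, hT, F.io z q * x, by rw [map_mul, (hker _).2 (F.io_mem hX q), one_mul, hπx],
    fun a ha => F.conj_io hX _ ?_ ?_ ha⟩
  · intro i hi; interval_cases T <;> interval_cases i <;> decide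
  · intro i hi
    have hp : 2 ^ i < 128 := by interval_cases i <;> norm_num
    have hqi : qinv q < 128 ∧ qmul q (qinv q) = 0 := by
      have : ∀ q < 128, qinv q < 128 ∧ qmul q (qinv q) = 0 := by decide +kernel
      exact this q hq
    have hinv : (F.io z q)⁻¹ = F.io z (qinv q) :=
      inv_eq_of_mul_eq_one_right (by rw [F.io_mul hX hq hqi.1, hqi.2, F.io_zero hX])
    have e : qmul (qmul q (β (2 ^ i))) (qinv q) = (imgX T).getD i 0 := by
      rw [hsplit _ (hβl (2 ^ i)), hgens i hi, hcols, ← hcb i hi]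
      exact hqs i hi
    rw [← e, ← F.io_mul hX (qmul_lt hq (hβl _)) hqi.1, ← F.io_mul hX hq (hβl _), ← hinv, hβ, ← himg _ hp]
    group

/-- The group is described by one of the six tables. -/
theorem exists_sys (hcard : Nat.card C = 21504) : ∃ k, ∃ S : Sys C k, S.io 64 = z := by
  obtain ⟨s, F, hs7, hπs, hS⟩ := exists_s hX π hπ hker
  obtain ⟨b, π', hπ', hker', hπ's, hπb, hB⟩ := exists_b hX π hπ hker F hs7 hπs hS
  obtain ⟨T, hT, x, hπx, hXa⟩ := exists_x hX π' hπ' hker' F hπ's hπb hS hB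
  clear hB hπb hπs hker hπ
  have hgen : ∀ (l : Bool) (a : ℕ), a < 128 →
      (bif l then s else x) * F.io z a * (bif l then s else x)⁻¹ = F.io z (tab T l a) := by
    intro l a ha
    cases l
    · show _ = F.io z (autQ (imgX (T % 3)) a)
      rw [Nat.mod_eq_of_lt hT]; exact hXa a ha
    · exact hS a ha
  set gv : List Bool → C := fun w => (w.map fun l => bif l then s else x).prod with hgv
  have hact : ∀ (w : List Bool) (a : ℕ), a < 128 → gv w * F.io z a * (gv w)⁻¹ = F.io z (act T w a) := by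
    intro w
    induction w with
    | nil => intro a _; simp [hgv, act]
    | cons l w ih =>
      intro a ha
      show _ = F.io z (tab T l (act T w a))
      rw [← hgen l _ (act_lt T w ha), ← ih a ha]
      simp only [hgv, List.map_cons, List.prod_cons]
      group
  have hinQ : ∀ {g : C}, g ∈ Q → ∀ m < 128, (∀ a ∈ [1, 2, 4, 8, 16, 32],
      g * F.io z a * g⁻¹ = F.io z (qmul (qmul m a) (qinv m))) → g = F.io z m ∨ g = F.io z (m ^^^ 64) := by
    intro g hg m hm h
    obtain ⟨n, hn, rfl⟩ := F.io_surj hX hg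
    have hqi : ∀ q < 128, qinv q < 128 ∧ qmul q (qinv q) = 0 := by decide +kernel
    have hcode : ∀ q < 128, ∀ a < 128, F.io z q * F.io z a * (F.io z q)⁻¹ = F.io z (qmul (qmul q a) (qinv q)) := by
      intro q hq a ha
      rw [inv_eq_of_mul_eq_one_right (by rw [F.io_mul hX hq (hqi q hq).1, (hqi q hq).2, F.io_zero hX] :
        F.io z q * F.io z (qinv q) = 1), F.io_mul hX hq ha, F.io_mul hX (qmul_lt hq ha) (hqi q hq).1]
    have key : ∀ n < 128, ∀ m < 128, (∀ a ∈ [1, 2, 4, 8, 16, 32],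
        qmul (qmul n a) (qinv n) = qmul (qmul m a) (qinv m)) → n = m ∨ n = m ^^^ 64 := by decide +kernel
    rcases key n hn m hm (fun a ha => F.io_inj hX
        (qmul_lt (qmul_lt hn (by fin_cases ha <;> norm_num)) (hqi n hn).1)
        (qmul_lt (qmul_lt hm (by fin_cases ha <;> norm_num)) (hqi m hm).1) (by
      have ha' : a < 128 := by fin_cases ha <;> norm_num
      rw [← hcode n hn a ha', h a ha])) with e | e
    · exact Or.inl (by rw [e])
    · exact Or.inr (by rw [e])
  have hxx : x * x = 1 ∨ x * x = z := by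
    have hmem : x * x ∈ Q := (hker' _).1 (by rw [map_mul, hπx, relsL.2.2.2.2.2.1])
    have key : ∀ T < 3, ∀ a ∈ [1, 2, 4, 8, 16, 32], act T [false, false] a = qmul (qmul 0 a) (qinv 0) := by
      decide +kernel
    have hyp : ∀ a ∈ [1, 2, 4, 8, 16, 32],
        x * x * F.io z a * (x * x)⁻¹ = F.io z (qmul (qmul 0 a) (qinv 0)) := by
      intro a ha
      have ha' : a < 128 := by fin_cases ha <;> norm_num
      rw [← key T hT a ha, ← hact [false, false] a ha']
      simp [hgv]
    rcases hinQ hmem 0 (by norm_num) hyp with e | e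
    · exact Or.inl (e.trans (F.io_zero hX))
    · exact Or.inr (e.trans (F.io_z hX))
  obtain ⟨x, hπx, hgen, hxx, hxs⟩ : ∃ x' : C, π' x' = xL ∧
      (∀ a < 128, x' * F.io z a * x'⁻¹ = F.io z (autQ (imgX T) a)) ∧ (x' * x' = 1 ∨ x' * x' = z) ∧
      x' * s * x' * s * x' * s = 1 := by
    have hmem : x * s * x * s * x * s ∈ Q := (hker' _).1 (by
      rw [map_mul, map_mul, map_mul, map_mul, map_mul, hπx, hπ's, relsL.2.2.2.2.2.2.1])
    have key : ∀ T < 3, ∀ a ∈ [1, 2, 4, 8, 16, 32],
        act T [false, true, false, true, false, true] a = qmul (qmul 0 a) (qinv 0) := by decide +kernel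
    have hyp : ∀ a ∈ [1, 2, 4, 8, 16, 32],
        x * s * x * s * x * s * F.io z a * (x * s * x * s * x * s)⁻¹ = F.io z (qmul (qmul 0 a) (qinv 0)) := by
      intro a ha
      have ha' : a < 128 := by fin_cases ha <;> norm_num
      rw [← key T hT a ha, ← hact _ a ha']
      simp [hgv, mul_assoc]
    rcases hinQ hmem 0 (by norm_num) hyp with e | e
    · exact ⟨x, hπx, hXa, hxx, e.trans (F.io_zero hX)⟩
    · refine ⟨x * z, ?_, fun a ha => ?_, ?_, ?_⟩
      · rw [map_mul, (hker' _).2 hX.mem, mul_one, hπx]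
      · rw [← hXa a ha, show x * z * F.io z a * (x * z)⁻¹ = x * (z * F.io z a * z⁻¹) * x⁻¹ by group,
          ← hX.central, mul_inv_cancel_right]
      · rwa [show x * z * (x * z) = x * (z * x) * z by group, ← hX.central x, ← mul_assoc x x,
          mul_assoc (x * x) z z, hX.zz, mul_one]
      · have e' : x * s * x * s * x * s = z := e.trans (F.io_z hX)
        have hz : ∀ g, z * g = g * z := fun g => (hX.central g).symm
        calc x * z * s * (x * z) * s * (x * z) * s
            = x * (z * s) * x * (z * s) * x * (z * s) := by group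
          _ = x * s * (z * x) * s * (z * x) * s * z := by rw [hz s]; group
          _ = x * s * x * (z * s) * x * (z * s) * z := by rw [hz x]; group
          _ = x * s * x * s * (z * x) * s * (z * z) := by rw [hz s]; group
          _ = x * s * x * s * x * (z * s) := by rw [hX.zz, hz x]; group
          _ = x * s * x * s * x * s * z := by rw [hz s]; group
          _ = 1 := by rw [e', hX.zz]
  clear hgv gv hact hXa
  obtain ⟨eps, heps, hx2⟩ : ∃ eps, (eps = 0 ∨ eps = 1) ∧ x * x = F.io z (64 * eps) := by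
    rcases hxx with e | e
    · exact ⟨0, Or.inl rfl, by rw [e, Nat.mul_zero, F.io_zero hX]⟩
    · exact ⟨1, Or.inr rfl, by rw [e, Nat.mul_one, F.io_z hX]⟩
  have htab : ∀ (l : Bool) (a : ℕ), a < 128 →
      (bif l then s else x) * F.io z a * (bif l then s else x)⁻¹ = F.io z (tab T l a) := by
    intro l a ha
    cases l
    · show _ = F.io z (autQ (imgX (T % 3)) a)
      rw [Nat.mod_eq_of_lt hT]; exact hgen a ha
    · exact hS a ha
  set gv : List Bool → C := fun w => (w.map fun l => bif l then s else x).prod with hgv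
  have hact : ∀ (w : List Bool) (a : ℕ), a < 128 → gv w * F.io z a * (gv w)⁻¹ = F.io z (act T w a) := by
    intro w
    induction w with
    | nil => intro a _; simp [hgv, act]
    | cons l w ih =>
      intro a ha
      show _ = F.io z (tab T l (act T w a))
      rw [← htab l _ (act_lt T w ha), ← ih a ha]
      simp only [hgv, List.map_cons, List.prod_cons]
      group
  set W := x * s * s * s * s with hW
  have hfour : W * W * W * W = F.io z (qFour T ^^^ 64 * eps) := by
    set g := x * s * x * s * s * s * s with hg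
    set H := g * x * g⁻¹ with hH
    have hH2 : H * H = F.io z (64 * eps) := by
      rw [hH, show g * x * g⁻¹ * (g * x * g⁻¹) = g * (x * x) * g⁻¹ by group, hx2]
      rcases heps with rfl | rfl
      · rw [Nat.mul_zero, F.io_zero hX, mul_one, mul_inv_cancel]
      · rw [Nat.mul_one, F.io_z hX, hX.central g, mul_inv_cancel_right]
    have hdQ : W * W * H⁻¹ ∈ Q := (hker' _).1 (by
      simp only [hW, hH, hg, map_mul, map_inv, hπx, hπ's]
      rw [relsL.2.2.2.2.2.2.2, mul_inv_cancel])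
    obtain ⟨d, hd, hde⟩ := F.io_surj hX hdQ
    set gi : List Bool := [true, true, true, false, true, true, true, true, true, true, false] with hgi
    set gl : List Bool := [false, true, false, true, true, true, true] with hgl
    set lH : List Bool := gl ++ false :: gi with hlH
    have hgv_app : ∀ u v, gv (u ++ v) = gv u * gv v := fun u v => by simp [hgv]
    have hgg : gv (gl ++ gi) ∈ Q := (hker' _).1 (by
      simp only [hgv, hgl, hgi, List.cons_append, List.nil_append, List.map_cons, List.map_nil, List.prod_cons,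
        List.prod_nil, cond_true, cond_false, map_mul, hπx, hπ's, map_one]
      decide +kernel)
    have hgc : ∀ a < 128, gv gi * F.io z a * (gv gi)⁻¹ = g⁻¹ * F.io z a * g := by
      have key : ∀ T < 3, ∀ a ∈ [1, 2, 4, 8, 16, 32],
          act T ([false, true, false, true, true, true, true] ++
            [true, true, true, false, true, true, true, true, true, true, false]) a =
          qmul (qmul 0 a) (qinv 0) := by decide +kernel
      have hyp : ∀ a ∈ [1, 2, 4, 8, 16, 32],
          gv (gl ++ gi) * F.io z a * (gv (gl ++ gi))⁻¹ = F.io z (qmul (qmul 0 a) (qinv 0)) := by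
        intro a ha
        have ha' : a < 128 := by fin_cases ha <;> norm_num
        rw [← key T hT a ha, ← hact _ a ha']
      intro a ha
      rcases hinQ hgg 0 (by norm_num) hyp with e | e
      all_goals
        rw [hgv_app, show gv gl = g by simp [hgv, hgl, hg, mul_assoc]] at e
      · rw [eq_inv_of_mul_eq_one_right (e.trans (F.io_zero hX))]; group
      · rw [eq_inv_mul_of_mul_eq (e.trans (F.io_z hX)),
          show g⁻¹ * z * F.io z a * (g⁻¹ * z)⁻¹ = g⁻¹ * (z * F.io z a * z⁻¹) * g by group, ← hX.central,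
          mul_inv_cancel_right]
    have hHact : ∀ a < 128, H * F.io z a * H⁻¹ = F.io z (act T lH a) := by
      intro a ha
      rw [← hact lH a ha, hlH, hgv_app, show gv gl = g by simp [hgv, hgl, hg, mul_assoc],
        show gv (false :: gi) = x * gv gi by simp [hgv],
        show g * (x * gv gi) * F.io z a * (g * (x * gv gi))⁻¹ =
          g * x * (gv gi * F.io z a * (gv gi)⁻¹) * x⁻¹ * g⁻¹ by group, hgc a ha, hH]
      group
    have hWW : ∀ a < 128, W * W * F.io z a * (W * W)⁻¹ =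
        F.io z (act T [false, true, true, true, true, false, true, true, true, true] a) := by
      intro a ha
      rw [← hact _ a ha]
      simp [hgv, hW, mul_assoc]
    have key : ∀ T < 3, ∀ d < 128,
        (∀ a ∈ [1, 2, 4, 8, 16, 32], qmul (qmul d (act T lH a)) (qinv d) =
          act T [false, true, true, true, true, false, true, true, true, true] a) →
        qmul d (act T lH d) = qFour T := by decide +kernel
    have hqi : ∀ q < 128, qinv q < 128 ∧ qmul q (qinv q) = 0 := by decide +kernel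
    have hkey := key T hT d hd (fun a ha => by
      have ha' : a < 128 := by fin_cases ha <;> norm_num
      have hl := act_lt T lH ha'
      refine F.io_inj hX (qmul_lt (qmul_lt hd hl) (hqi d hd).1) (act_lt _ _ ha') ?_
      rw [← F.io_mul hX (qmul_lt hd hl) (hqi d hd).1, ← F.io_mul hX hd hl,
        ← inv_eq_of_mul_eq_one_right (by rw [F.io_mul hX hd (hqi d hd).1, (hqi d hd).2, F.io_zero hX] :
          F.io z d * F.io z (qinv d) = 1), ← hHact a ha', ← hWW a ha', hde]
      group)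
    have h64 : 64 * eps < 128 := by rcases heps with rfl | rfl <;> norm_num
    have hl := act_lt T lH hd
    have e : W * W = F.io z d * H := by rw [hde]; group
    have hxor : ∀ T < 3, qmul (qFour T) 0 = qFour T ^^^ 0 ∧ qmul (qFour T) 64 = qFour T ^^^ 64 := by
      decide +kernel
    calc W * W * W * W = F.io z d * H * (F.io z d * H) := by rw [← e]; group
      _ = F.io z d * (H * F.io z d * H⁻¹) * (H * H) := by group
      _ = F.io z (qmul (qFour T) (64 * eps)) := by
        rw [hHact d hd, hH2, F.io_mul hX hd hl, F.io_mul hX (qmul_lt hd hl) h64, hkey]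
      _ = _ := by
        rcases heps with rfl | rfl
        · rw [Nat.mul_zero]; rw [(hxor T hT).1]
        · rw [Nat.mul_one]; rw [(hxor T hT).2]
  refine ⟨T + 3 * eps,
    { io := F.io z
      s := s
      x := x
      lt := by omega
      mul := fun a ha b hb => F.io_mul hX ha hb
      inj := fun a ha b hb h => F.io_inj hX ha hb h
      cs := fun a ha => hS a ha
      cx := fun a ha => by
        show _ = F.io z (autQ (imgX ((T + 3 * eps) % 3)) a)
        rw [show (T + 3 * eps) % 3 = T by omega]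
        exact hgen a ha
      hxx := by
        rw [hx2, epsOf, show (T + 3 * eps) / 3 = eps by omega]
      hs7 := by rw [← hs7]; simp [pow_succ, mul_assoc]
      hxs := hxs
      hfour := by
        rw [hW] at hfour
        rw [hfour, epsOf, typeOf, show (T + 3 * eps) % 3 = T by omega, show (T + 3 * eps) / 3 = eps by omega]
      card := hcard }, F.io_z hX⟩

end

end Cfsg.Agent.HeCent
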